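import Cfsg.Agent.Lib.InvChar.SecNine.Section

/-!
# The alternating group of degree 6 has two classes of nontrivial 3-elements
-/

set_option autoImplicit false

namespace CfsgLib.InvChar.SecNine

open Equiv

/-- The 3-cycle `(0 1 2)`. -/
def aSix : alternatingGroup (Fin 6) :=
  ⟨swap 0 1 * swap 1 2, by rw [Equiv.Perm.mem_alternatingGroup]; decide⟩

/-- The 3-cycle `(3 4 5)`. -/
def bSix : alternatingGroup (Fin 6) :=
  ⟨swap 3 4 * swap 4 5, by rw [Equiv.Perm.mem_alternatingGroup]; decide⟩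

/-- `(0 1)(3 4)`. -/
def sSix : alternatingGroup (Fin 6) :=
  ⟨swap 0 1 * swap 3 4, by rw [Equiv.Perm.mem_alternatingGroup]; decide⟩

/-- `(0 3 1 4)(2 5)`. -/
def uSix : alternatingGroup (Fin 6) :=
  ⟨swap 0 3 * swap 3 1 * swap 1 4 * swap 2 5, by rw [Equiv.Perm.mem_alternatingGroup]; decide⟩

theorem six_mul : ∀ i j k l : Fin 3, aSix ^ (i : ℕ) * bSix ^ (j : ℕ) *
    (aSix ^ (k : ℕ) * bSix ^ (l : ℕ)) = aSix ^ ((i + k : Fin 3) : ℕ) * bSix ^ ((j + l : Fin 3) : ℕ) := by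
  decide +kernel

theorem six_inj : ∀ i j k l : Fin 3, aSix ^ (i : ℕ) * bSix ^ (j : ℕ) =
    aSix ^ (k : ℕ) * bSix ^ (l : ℕ) → i = k ∧ j = l := by
  decide +kernel

theorem six_conj : ∀ i j : Fin 3, (i = 0 ∧ j = 0) ∨ ∃ m n : Fin 4,
    sSix ^ (m : ℕ) * uSix ^ (n : ℕ) * aSix * (sSix ^ (m : ℕ) * uSix ^ (n : ℕ))⁻¹ =
        aSix ^ (i : ℕ) * bSix ^ (j : ℕ) ∨
    sSix ^ (m : ℕ) * uSix ^ (n : ℕ) * (aSix * bSix) * (sSix ^ (m : ℕ) * uSix ^ (n : ℕ))⁻¹ =
        aSix ^ (i : ℕ) * bSix ^ (j : ℕ) := by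
  decide +kernel

/-- The Sylow 3-subgroup of `A₆` as a set of nine products. -/
def eSix : Subgroup (alternatingGroup (Fin 6)) where
  carrier := {x | ∃ i j : Fin 3, x = aSix ^ (i : ℕ) * bSix ^ (j : ℕ)}
  one_mem' := ⟨0, 0, by simp⟩
  mul_mem' := by
    rintro x y ⟨i, j, rfl⟩ ⟨k, l, rfl⟩
    exact ⟨i + k, j + l, six_mul i j k l⟩
  inv_mem' := by
    rintro x ⟨i, j, rfl⟩
    refine ⟨-i, -j, inv_eq_of_mul_eq_one_right ?_⟩
    rw [six_mul, add_neg_cancel, add_neg_cancel]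
    simp

theorem card_eSix : Nat.card eSix = 9 := by
  rw [← Nat.card_congr (Equiv.ofBijective
    (fun p : Fin 3 × Fin 3 => (⟨aSix ^ (p.1 : ℕ) * bSix ^ (p.2 : ℕ), p.1, p.2, rfl⟩ : eSix))
    ⟨fun p q h => Prod.ext (six_inj _ _ _ _ (congrArg Subtype.val h)).1
      (six_inj _ _ _ _ (congrArg Subtype.val h)).2,
      fun x => by obtain ⟨i, j, h⟩ := x.2; exact ⟨(i, j), Subtype.ext h.symm⟩⟩)]
  simp

theorem alt_six_classes (x : alternatingGroup (Fin 6)) (hx : x ≠ 1) (h9 : x ^ 9 = 1) :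
    IsConj aSix x ∨ IsConj (aSix * bSix) x := by
  haveI := Fact.mk Nat.prime_three
  have hcard : Nat.card (alternatingGroup (Fin 6)) = 360 := by
    rw [nat_card_alternatingGroup, Nat.card_eq_fintype_card, Fintype.card_fin]
    rfl
  have hP : Nat.card eSix = 3 ^ (Nat.card (alternatingGroup (Fin 6))).factorization 3 := by
    rw [card_eSix, hcard]
    have h : (360 : ℕ).factorization 3 = 2 := by
      rw [show 360 = 3 ^ 2 * 40 by rfl, Nat.factorization_mul (by norm_num) (by norm_num),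
        Finsupp.add_apply, Nat.factorization_pow, Finsupp.smul_apply,
        Nat.Prime.factorization_self Nat.prime_three,
        Nat.factorization_eq_zero_of_not_dvd (by norm_num)]
      rfl
    rw [h]; rfl
  obtain ⟨h, hh⟩ := conj_mem_sylow (Sylow.ofCard eSix hP) h9
  have hh' : h * x * h⁻¹ ∈ eSix := by simpa using hh
  obtain ⟨i, j, hij⟩ := hh'
  rcases six_conj i j with ⟨rfl, rfl⟩ | ⟨m, n, hmn | hmn⟩
  · simp only [Fin.val_zero, pow_zero, mul_one] at hij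
    exact absurd (conj_eq_one_iff.1 hij) hx
  · exact Or.inl (IsConj.trans (isConj_iff.2 ⟨_, hmn.trans hij.symm⟩)
      (isConj_iff.2 ⟨h, rfl⟩ : IsConj x _).symm)
  · exact Or.inr (IsConj.trans (isConj_iff.2 ⟨_, hmn.trans hij.symm⟩)
      (isConj_iff.2 ⟨h, rfl⟩ : IsConj x _).symm)

end CfsgLib.InvChar.SecNine
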