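import Cfsg.Agent.Lib.InvChar.SecNine.Fns

/-!
# The automiser of a Sylow 3-subgroup of order 9 with at least three classes of 3-elements
-/

set_option autoImplicit false
set_option linter.unusedSectionVars false

namespace CfsgLib.InvChar.SecNine

universe u

variable {G : Type u} [Group G] [Finite G] (R : Sylow 3 G)

/-- The automiser is `{±1}`. -/
structure Inv : Prop where
  pm : ∀ n ∈ nrm R, (∀ r ∈ (R : Subgroup G), n * r * n⁻¹ = r) ∨
    (∀ r ∈ (R : Subgroup G), n * r * n⁻¹ = r⁻¹)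
  inv : ∃ n ∈ nrm R, ∀ r ∈ (R : Subgroup G), n * r * n⁻¹ = r⁻¹

/-- The automiser is the four-group of diagonal signs on `⟨a⟩ × ⟨c⟩`. -/
structure Klein (a c : G) : Prop where
  ha : a ∈ (R : Subgroup G)
  hc : c ∈ (R : Subgroup G)
  a3 : a ^ 3 = 1
  c3 : c ^ 3 = 1
  a1 : a ≠ 1
  c1 : c ≠ 1
  indep : c ∉ Subgroup.zpowers a
  span : ∀ r ∈ (R : Subgroup G), ∃ i j : ℕ, r = a ^ i * c ^ j
  sa : ∀ n ∈ nrm R, n * a * n⁻¹ = a ∨ n * a * n⁻¹ = a⁻¹
  sc : ∀ n ∈ nrm R, n * c * n⁻¹ = c ∨ n * c * n⁻¹ = c⁻¹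
  n1 : ∃ n ∈ nrm R, n * a * n⁻¹ = a⁻¹ ∧ n * c * n⁻¹ = c
  n2 : ∃ n ∈ nrm R, n * a * n⁻¹ = a ∧ n * c * n⁻¹ = c⁻¹

theorem pow_gcd {x : G} {m k : ℕ} (h1 : x ^ m = 1) (h2 : x ^ k = 1) : x ^ m.gcd k = 1 :=
  pow_gcd_eq_one.2 ⟨h1, h2⟩

theorem eq_one_of_pow9 {x : G} (h9 : x ^ 9 = 1) {k : ℕ} (hk : ¬ 3 ∣ k) (h : x ^ k = 1) : x = 1 := by
  have hc : Nat.Coprime 9 k := by
    have : Nat.Coprime 3 k := Nat.prime_three.coprime_iff_not_dvd.2 hk
    simpa using this.pow_left 2
  simpa [hc.gcd_eq_one] using pow_gcd h9 h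

theorem mem_of_normalizer {x : G} (h9 : x ^ 9 = 1) (hx : x ∈ nrm R) : x ∈ (R : Subgroup G) := by
  haveI := Fact.mk Nat.prime_three
  have hp : IsPGroup 3 (Subgroup.zpowers x) := by
    obtain ⟨j, -, hj⟩ := (Nat.dvd_prime_pow Nat.prime_three).1
      (show orderOf x ∣ 3 ^ 2 from orderOf_dvd_of_pow_eq_one h9)
    exact IsPGroup.of_card (p := 3) (n := j) (by rw [Nat.card_zpowers, hj])
  have := (hp.inf_normalizer_sylow R).le (Subgroup.mem_inf.2 ⟨Subgroup.mem_zpowers x, hx⟩)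
  exact this.2

theorem pow_nine (hR : Nat.card ↥(R : Subgroup G) = 9) {r : G} (hr : r ∈ (R : Subgroup G)) :
    r ^ 9 = 1 := by
  have := pow_card_eq_one' (x := (⟨r, hr⟩ : ↥(R : Subgroup G)))
  rw [hR] at this
  simpa using congrArg Subtype.val this

variable [IsMulCommutative (R : Subgroup G)]

theorem comm_of_mem {r s : G} (hr : r ∈ (R : Subgroup G)) (hs : s ∈ (R : Subgroup G)) :
    r * s = s * r :=
  congrArg Subtype.val (mul_comm' (⟨r, hr⟩ : ↥(R : Subgroup G)) ⟨s, hs⟩)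

theorem conj_mem {n r : G} (hn : n ∈ nrm R) (hr : r ∈ (R : Subgroup G)) :
    n * r * n⁻¹ ∈ (R : Subgroup G) :=
  (Subgroup.mem_normalizer_iff.1 hn r).1 hr

/-- In a simple group the automiser has no fixed point. -/
theorem exists_move [IsSimpleGroup G] (hG : ¬ IsMulCommutative G)
    (hR : Nat.card ↥(R : Subgroup G) = 9) {r : G} (hr : r ∈ (R : Subgroup G)) (h1 : r ≠ 1) :
    ∃ n ∈ nrm R, n * r * n⁻¹ ≠ r := by
  haveI := Fact.mk Nat.prime_three
  by_contra hcon
  push Not at hcon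
  letI : CommGroup ↥(R : Subgroup G) :=
    { (inferInstance : Group ↥(R : Subgroup G)) with mul_comm := mul_comm' }
  set τ : G →* ↥(R : Subgroup G) := MonoidHom.transfer (MonoidHom.id ↥(R : Subgroup G)) with hτ
  have key : ∀ (k : ℕ) (g₀ : G), g₀⁻¹ * r ^ k * g₀ ∈ (R : Subgroup G) →
      g₀⁻¹ * r ^ k * g₀ = r ^ k := by
    intro k g₀ h
    obtain ⟨n, hn, he⟩ := R.conj_eq_normalizer_conj_of_mem (r ^ k) g₀ (pow_mem hr k) h
    rw [he]
    calc n⁻¹ * r ^ k * n = n⁻¹ * (n * r * n⁻¹) ^ k * n := by rw [hcon n hn]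
      _ = r ^ k := by rw [conj_pow]; group
  have hτr : τ r ≠ 1 := by
    intro e
    rw [hτ, MonoidHom.transfer_eq_pow _ r key] at e
    exact h1 (eq_one_of_pow9 (pow_nine R hR hr) R.not_dvd_index
      (by simpa using congrArg Subtype.val e))
  rcases (MonoidHom.normal_ker τ).eq_bot_or_eq_top with h | h
  · exact hG ⟨⟨fun x y => (MonoidHom.ker_eq_bot_iff τ).1 h
      (by rw [map_mul, map_mul, mul_comm])⟩⟩
  · exact hτr (by have := h ▸ Subgroup.mem_top r; exact this)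

/-- Representatives of three classes of nontrivial 3-elements in `R`. -/
theorem exists_three (hR : Nat.card ↥(R : Subgroup G) = 9)
    (h3 : 3 ≤ Nat.card {C : ConjClasses G // ∃ g ∈ C.carrier, g ≠ 1 ∧ orderOf g ∣ 9}) :
    ∃ f : Fin 3 → G, (∀ i, f i ∈ (R : Subgroup G) ∧ f i ≠ 1) ∧
      ∀ i j, IsConj (f i) (f j) → i = j := by
  haveI := Fintype.ofFinite {C : ConjClasses G // ∃ g ∈ C.carrier, g ≠ 1 ∧ orderOf g ∣ 9}
  rw [Nat.card_eq_fintype_card] at h3
  let e : Fin 3 ↪ {C : ConjClasses G // ∃ g ∈ C.carrier, g ≠ 1 ∧ orderOf g ∣ 9} :=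
    (Fin.castLEEmb h3).trans (Fintype.equivFin _).symm.toEmbedding
  have h : ∀ i : Fin 3, ∃ r ∈ (R : Subgroup G), r ≠ 1 ∧ r ∈ (e i).1.carrier := by
    intro i
    obtain ⟨g, hg, hg1, hg9⟩ := (e i).2
    obtain ⟨h, hh⟩ := conj_mem_sylow R (orderOf_dvd_iff_pow_eq_one.1 hg9)
    refine ⟨_, hh, fun e' => hg1 (conj_eq_one_iff.1 e'), ?_⟩
    rw [ConjClasses.mem_carrier_iff_mk_eq] at hg ⊢
    rw [← hg, ConjClasses.mk_eq_mk_iff_isConj]
    exact (isConj_iff.2 ⟨h, rfl⟩ : IsConj g _).symm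
  choose f hf using h
  refine ⟨f, fun i => ⟨(hf i).1, (hf i).2.1⟩, fun i j hc => e.injective (Subtype.ext ?_)⟩
  rw [← (ConjClasses.mem_carrier_iff_mk_eq.1 (hf i).2.2),
    ← (ConjClasses.mem_carrier_iff_mk_eq.1 (hf j).2.2), ConjClasses.mk_eq_mk_iff_isConj]
  exact hc

theorem inv_of_cyclic [IsSimpleGroup G] (hG : ¬ IsMulCommutative G) {M : ℕ}
    (hM : Nat.card G = 9 * M) (h3M : ¬ 3 ∣ M)
    (hR : Nat.card ↥(R : Subgroup G) = 9) {g : G} (hg : g ∈ (R : Subgroup G))
    (hg3 : g ^ 3 ≠ 1) : Inv R := by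
  have hgo : orderOf g = 9 := by
    obtain ⟨j, hj2, hj⟩ := (Nat.dvd_prime_pow Nat.prime_three).1
      (show orderOf g ∣ 3 ^ 2 from orderOf_dvd_of_pow_eq_one (pow_nine R hR hg))
    interval_cases j
    · exact absurd (orderOf_dvd_iff_pow_eq_one.1 (by rw [hj]; norm_num)) hg3
    · exact absurd (orderOf_dvd_iff_pow_eq_one.1 (by rw [hj]; norm_num)) hg3
    · simpa using hj
  have hgen : ∀ r ∈ (R : Subgroup G), r ∈ Subgroup.zpowers g := by
    have e : Subgroup.zpowers g = (R : Subgroup G) := Subgroup.eq_of_le_of_card_ge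
      (Subgroup.zpowers_le.2 hg) (by rw [hR, Nat.card_zpowers, hgo])
    exact fun r hr => e.symm ▸ hr
  have hpm : ∀ n ∈ nrm R, n * g * n⁻¹ = g ∨ n * g * n⁻¹ = g⁻¹ := by
    intro n hn
    obtain ⟨i, hi⟩ := (Submonoid.mem_powers_iff _ _).1
      (mem_powers_iff_mem_zpowers.2 (hgen _ (conj_mem R hn hg)))
    have hpow : ∀ k : ℕ, n ^ k * g * (n ^ k)⁻¹ = g ^ i ^ k := by
      intro k
      induction k with
      | zero => simp
      | succ k ih =>
        calc n ^ (k + 1) * g * (n ^ (k + 1))⁻¹ = n * (n ^ k * g * (n ^ k)⁻¹) * n⁻¹ := by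
              rw [pow_succ']; group
          _ = g ^ i ^ (k + 1) := by rw [ih, ← conj_pow, ← hi, ← pow_mul, pow_succ']
    have hnM : n ^ M ∈ (R : Subgroup G) := mem_of_normalizer R (by
      rw [← pow_mul, mul_comm, ← hM]
      exact pow_card_eq_one') (pow_mem hn M)
    have h1 : g ^ i ^ M = g ^ 1 := by
      rw [← hpow M, comm_of_mem R hnM hg, mul_inv_cancel_right, pow_one]
    rw [pow_eq_pow_iff_modEq, hgo] at h1
    have hi3 : ¬ 3 ∣ i := fun h => by
      have h2 : (n * g * n⁻¹) ^ 3 = 1 := by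
        rw [← hi, ← pow_mul]
        exact orderOf_dvd_iff_pow_eq_one.1 (hgo ▸ Nat.mul_dvd_mul h dvd_rfl)
      rw [conj_pow, conj_eq_one_iff] at h2
      exact hg3 h2
    have hz1 : (i : ZMod 9) ^ M = 1 := by
      have := (ZMod.natCast_eq_natCast_iff _ _ _).2 h1
      simpa using this
    have hz6 : (i : ZMod 9) ^ 6 = 1 := by
      have h6 : ∀ x : ZMod 9, x.val % 3 ≠ 0 → x ^ 6 = 1 := by decide
      refine h6 _ ?_
      rw [ZMod.val_natCast]
      omega
    have hd : M.gcd 6 ∣ 2 := by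
      have h1' := Nat.gcd_dvd_left M 6
      have h2' := Nat.gcd_dvd_right M 6
      have : M.gcd 6 ≤ 6 := Nat.le_of_dvd (by norm_num) h2'
      have hno3 : ¬ 3 ∣ M.gcd 6 := fun h => h3M (h.trans h1')
      generalize M.gcd 6 = d at *
      interval_cases d <;> omega
    obtain ⟨d, hd⟩ := hd
    have hz2 : (i : ZMod 9) ^ 2 = 1 := by rw [hd, pow_mul, pow_gcd_eq_one.2 ⟨hz1, hz6⟩, one_pow]
    have hsol : ∀ x : ZMod 9, x ^ 2 = 1 → x = 1 ∨ x + 1 = 0 := by decide
    rcases hsol _ hz2 with h | h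
    · left
      rw [← hi]
      conv_rhs => rw [← pow_one g]
      refine pow_eq_pow_iff_modEq.2 ?_
      rw [hgo]
      exact (ZMod.natCast_eq_natCast_iff _ _ _).1 (by simpa using h)
    · right
      rw [← hi, eq_inv_iff_mul_eq_one, ← pow_succ]
      refine orderOf_dvd_iff_pow_eq_one.1 ?_
      rw [hgo, ← ZMod.natCast_eq_zero_iff]
      simpa using h
  refine ⟨fun n hn => ?_, ?_⟩
  · rcases hpm n hn with h | h
    · refine Or.inl fun r hr => ?_
      obtain ⟨k, rfl⟩ := Subgroup.mem_zpowers_iff.1 (hgen r hr)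
      rw [← conj_zpow, h]
    · refine Or.inr fun r hr => ?_
      obtain ⟨k, rfl⟩ := Subgroup.mem_zpowers_iff.1 (hgen r hr)
      rw [← conj_zpow, h, inv_zpow]
  · obtain ⟨n, hn, hne⟩ := exists_move R hG hR hg (fun e => hg3 (by rw [e, one_pow]))
    refine ⟨n, hn, fun r hr => ?_⟩
    obtain ⟨k, rfl⟩ := Subgroup.mem_zpowers_iff.1 (hgen r hr)
    rw [← conj_zpow, (hpm n hn).resolve_left hne, inv_zpow]

open scoped Classical in
/-- The conjugates of `r` lying in `R`. -/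
noncomputable def orb [Fintype ↥(R : Subgroup G)] (r : G) : Finset ↥(R : Subgroup G) :=
  Finset.univ.filter fun s => IsConj r (s : G)

theorem card_orb_mul [Fintype ↥(R : Subgroup G)] {r : G} (hr : r ∈ (R : Subgroup G)) :
    (orb R r).card * Nat.card (cN R r) = Nat.card (nrm R) := by
  classical
  haveI := Fact.mk Nat.prime_three
  rw [← sum_carrier R hr]
  have hcard : ∀ s ∈ orb R r, Nat.card (cN R (s : G)) = Nat.card (cN R r) := by
    intro s hs
    have hc : IsConj r (s : G) := by simpa [orb] using hs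
    have h1 := card_carrier R hr s.2
    rw [Set.indicator_of_mem (show (s : G) ∈ {x | IsConj r x} from hc)] at h1
    obtain ⟨g, hg⟩ := isConj_iff.1 hc
    obtain ⟨n, hn, hne⟩ := R.conj_eq_normalizer_conj_of_mem r g⁻¹ hr
      (by rw [inv_inv, hg]; exact s.2)
    rw [inv_inv, hg] at hne
    rw [← h1]
    refine Nat.card_congr
      { toFun := fun m => ⟨n * (m.1 : G), Subgroup.mem_centralizer_singleton_iff.2 ?_,
          mul_mem hn m.1.2⟩
        invFun := fun c => ⟨⟨n⁻¹ * (c : G), mul_mem (inv_mem hn) c.2.2⟩, ?_⟩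
        left_inv := fun m => Subtype.ext (Subtype.ext (by simp))
        right_inv := fun c => Subtype.ext (by simp) }
    · have h2 : (m.1 : G) * r * (m.1 : G)⁻¹ = (s : G) := m.2
      calc n * (m.1 : G) * r = n * ((m.1 : G) * r * (m.1 : G)⁻¹) * (m.1 : G) := by group
        _ = r * (n * (m.1 : G)) := by rw [h2.trans hne]; group
    · have h2 : (c : G) * r = r * c := Subgroup.mem_centralizer_singleton_iff.1 c.2.1
      calc n⁻¹ * (c : G) * r * (n⁻¹ * (c : G))⁻¹ = n⁻¹ * ((c : G) * r) * (c : G)⁻¹ * n := by group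
        _ = (s : G) := by rw [h2, hne]; group
  calc (orb R r).card * Nat.card (cN R r) = ∑ s ∈ orb R r, Nat.card (cN R (s : G)) := by
        rw [Finset.sum_congr rfl hcard, Finset.sum_const, smul_eq_mul]
    _ = _ := by
        rw [orb, Finset.sum_filter]
        exact Finset.sum_congr rfl fun s _ => by
          rw [Set.indicator_apply]
          exact if_congr Iff.rfl rfl rfl

theorem three_not_dvd_orb [Fintype ↥(R : Subgroup G)] {r : G} (hr : r ∈ (R : Subgroup G)) :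
    ¬ 3 ∣ (orb R r).card := by
  haveI := Fact.mk Nat.prime_three
  intro h
  have h1 : Nat.card ↥(R : Subgroup G) ∣ Nat.card (cN R r) :=
    Subgroup.card_dvd_of_le fun s hs => ⟨Subgroup.mem_centralizer_singleton_iff.2
      (comm_of_mem R hs hr), Subgroup.le_normalizer hs⟩
  have h2 := Nat.mul_dvd_mul h h1
  rw [card_orb_mul R hr] at h2
  obtain ⟨j, hj⟩ := IsPGroup.iff_card.1 R.isPGroup'
  have h3 := R.card_eq_multiplicity
  rw [hj] at h2 h3
  have h4 := h2.trans (Subgroup.card_subgroup_dvd_card (nrm R))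
  rw [← pow_succ'] at h4
  exact Nat.pow_succ_factorization_not_dvd Nat.card_pos.ne' Nat.prime_three
    ((Nat.pow_right_injective (by norm_num : 2 ≤ 3) h3) ▸ h4)

theorem two_le_orb [Fintype ↥(R : Subgroup G)] [IsSimpleGroup G] (hG : ¬ IsMulCommutative G)
    (hR : Nat.card ↥(R : Subgroup G) = 9) {r : G} (hr : r ∈ (R : Subgroup G)) (h1 : r ≠ 1) :
    2 ≤ (orb R r).card := by
  classical
  obtain ⟨n, hn, hne⟩ := exists_move R hG hR hr h1
  refine Finset.one_lt_card.2 ⟨⟨r, hr⟩, Finset.mem_filter.2 ⟨Finset.mem_univ _, IsConj.refl _⟩,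
    ⟨_, conj_mem R hn hr⟩,
    Finset.mem_filter.2 ⟨Finset.mem_univ _, isConj_iff.2 ⟨n, rfl⟩⟩, fun e => hne ?_⟩
  exact (congrArg Subtype.val e).symm

/-- A pair orbit is `{r, r⁻¹}`. -/
theorem orb_two [Fintype ↥(R : Subgroup G)] [IsSimpleGroup G] (hG : ¬ IsMulCommutative G)
    (hR : Nat.card ↥(R : Subgroup G) = 9) {r : G} (hr : r ∈ (R : Subgroup G))
    (h2 : (orb R r).card = 2) (h1 : r ≠ 1) : ∀ n ∈ nrm R, n * r * n⁻¹ = r ∨ n * r * n⁻¹ = r⁻¹ := by
  classical
  have hsub : ∀ (m : G) (hm : m ∈ nrm R) (x : G) (hx : x ∈ (R : Subgroup G)), IsConj r x →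
      (⟨_, conj_mem R hm hx⟩ : ↥(R : Subgroup G)) ∈ orb R r := fun m hm x hx hc =>
    Finset.mem_filter.2 ⟨Finset.mem_univ _, hc.trans (isConj_iff.2 ⟨m, rfl⟩)⟩
  obtain ⟨u, v, huv, he⟩ := Finset.card_eq_two.1 h2
  obtain ⟨m₀, hm₀, hne⟩ := exists_move R hG hR hr h1
  have hmem : ∀ m ∈ nrm R, ∀ x : ↥(R : Subgroup G), x ∈ orb R r →
      m * (x : G) * m⁻¹ = u ∨ m * (x : G) * m⁻¹ = v := by
    intro m hm x hx
    have := hsub m hm x x.2 (Finset.mem_filter.1 hx).2
    rw [he, Finset.mem_insert, Finset.mem_singleton, Subtype.ext_iff, Subtype.ext_iff] at this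
    exact this
  have hu : u ∈ orb R r := by rw [he]; exact Finset.mem_insert_self _ _
  have hv : v ∈ orb R r := by rw [he]; exact Finset.mem_insert_of_mem (Finset.mem_singleton_self _)
  have hprod : ∀ m ∈ nrm R, m * ((u : G) * v) * m⁻¹ = (u : G) * v := by
    intro m hm
    have huv' : (u : G) ≠ v := fun e => huv (Subtype.ext e)
    have e1 : m * ((u : G) * v) * m⁻¹ = (m * (u : G) * m⁻¹) * (m * (v : G) * m⁻¹) := by group
    have hneq : m * (u : G) * m⁻¹ ≠ m * (v : G) * m⁻¹ := fun e =>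
      huv' (mul_left_cancel (mul_right_cancel e))
    rw [e1]
    rcases hmem m hm u hu with h | h <;> rcases hmem m hm v hv with h' | h'
    · exact absurd (h.trans h'.symm) hneq
    · rw [h, h']
    · rw [h, h', comm_of_mem R v.2 u.2]
    · exact absurd (h.trans h'.symm) hneq
  have hone : (u : G) * v = 1 := by
    by_contra hne1
    obtain ⟨m, hm, hmne⟩ := exists_move R hG hR (mul_mem u.2 v.2) hne1
    exact hmne (hprod m hm)
  have hrv : r = u ∨ r = (v : G) := by
    have : (⟨r, hr⟩ : ↥(R : Subgroup G)) ∈ orb R r :=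
      Finset.mem_filter.2 ⟨Finset.mem_univ _, IsConj.refl _⟩
    rw [he, Finset.mem_insert, Finset.mem_singleton, Subtype.ext_iff, Subtype.ext_iff] at this
    exact this
  intro n hn
  have hr' := hmem n hn ⟨r, hr⟩ (Finset.mem_filter.2 ⟨Finset.mem_univ _, IsConj.refl _⟩)
  have hv' : (v : G) = (u : G)⁻¹ := eq_inv_of_mul_eq_one_right hone
  rcases hrv with e | e
  · rw [hv', ← e] at hr'
    exact hr'
  · rw [show (u : G) = (v : G)⁻¹ by rw [hv', inv_inv], ← e] at hr'
    exact hr'.symm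

/-- The two possible automisers. -/
theorem automiser [IsSimpleGroup G] (hG : ¬ IsMulCommutative G) {M : ℕ}
    (hM : Nat.card G = 9 * M) (h3M : ¬ 3 ∣ M) (hR : Nat.card ↥(R : Subgroup G) = 9)
    (h3 : 3 ≤ Nat.card {C : ConjClasses G // ∃ g ∈ C.carrier, g ≠ 1 ∧ orderOf g ∣ 9}) :
    Inv R ∨ ∃ a c, Klein R a c := by
  classical
  by_cases hcyc : ∃ g ∈ (R : Subgroup G), g ^ 3 ≠ 1
  · obtain ⟨g, hg, hg3⟩ := hcyc
    exact Or.inl (inv_of_cyclic R hG hM h3M hR hg hg3)
  push Not at hcyc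
  haveI := Fintype.ofFinite ↥(R : Subgroup G)
  obtain ⟨f, hf, hfc⟩ := exists_three R hR h3
  have hdis : ∀ i j, i ≠ j → Disjoint (orb R (f i)) (orb R (f j)) := fun i j hij =>
    Finset.disjoint_left.2 fun x hx hx' =>
      hij (hfc i j ((Finset.mem_filter.1 hx).2.trans (Finset.mem_filter.1 hx').2.symm))
  have htot : (orb R (f 0)).card + (orb R (f 1)).card + (orb R (f 2)).card ≤ 8 := by
    rw [← Finset.card_union_of_disjoint (hdis 0 1 (by decide)),
      ← Finset.card_union_of_disjoint (Finset.disjoint_union_left.2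
        ⟨hdis 0 2 (by decide), hdis 1 2 (by decide)⟩)]
    refine (Finset.card_le_card (t := Finset.univ.erase 1) fun x hx => Finset.mem_erase.2
      ⟨?_, Finset.mem_univ _⟩).trans (le_of_eq ?_)
    · intro e
      subst e
      simp only [Finset.mem_union, orb, Finset.mem_filter, Finset.mem_univ, true_and,
        OneMemClass.coe_one, isConj_one_left] at hx
      rcases hx with (h | h) | h <;> exact (hf _).2 h
    · rw [Finset.card_erase_of_mem (Finset.mem_univ _), Finset.card_univ,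
        ← Nat.card_eq_fintype_card, hR]
  have h2 := fun i => two_le_orb R hG hR (hf i).1 (hf i).2
  have hn3 := fun i => three_not_dvd_orb R (hf i).1
  obtain ⟨i, j, hij, hi, hj⟩ : ∃ i j : Fin 3, i ≠ j ∧ (orb R (f i)).card = 2 ∧
      (orb R (f j)).card = 2 := by
    have := h2 0; have := h2 1; have := h2 2
    have := hn3 0; have := hn3 1; have := hn3 2
    have hcases : ((orb R (f 0)).card = 2 ∧ (orb R (f 1)).card = 2) ∨
        ((orb R (f 0)).card = 2 ∧ (orb R (f 2)).card = 2) ∨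
        ((orb R (f 1)).card = 2 ∧ (orb R (f 2)).card = 2) := by omega
    rcases hcases with h | h | h
    · exact ⟨0, 1, by decide, h⟩
    · exact ⟨0, 2, by decide, h⟩
    · exact ⟨1, 2, by decide, h⟩
  set a := f i with ha
  set c := f j with hc
  have haR := (hf i).1
  have hcR := (hf j).1
  have sa := orb_two R hG hR haR hi (hf i).2
  have sc := orb_two R hG hR hcR hj (hf j).2
  obtain ⟨na, hna, hnae⟩ := exists_move R hG hR haR (hf i).2
  obtain ⟨nc, hnc, hnce⟩ := exists_move R hG hR hcR (hf j).2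
  have hna' := (sa na hna).resolve_left hnae
  have hnc' := (sc nc hnc).resolve_left hnce
  have hoa : orderOf a = 3 :=
    (Nat.prime_three.eq_one_or_self_of_dvd _ (orderOf_dvd_of_pow_eq_one (hcyc a haR))).resolve_left
      fun e => (hf i).2 (orderOf_eq_one_iff.1 e)
  have hoc : orderOf c = 3 :=
    (Nat.prime_three.eq_one_or_self_of_dvd _ (orderOf_dvd_of_pow_eq_one (hcyc c hcR))).resolve_left
      fun e => (hf j).2 (orderOf_eq_one_iff.1 e)
  have hconj : ∀ x ∈ Subgroup.zpowers a, x ≠ 1 → IsConj a x := by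
    intro x hx hx1
    obtain ⟨k, hk⟩ := (Submonoid.mem_powers_iff _ _).1 (mem_powers_iff_mem_zpowers.2 hx)
    rw [← pow_mod_orderOf, hoa] at hk
    have : k % 3 = 0 ∨ k % 3 = 1 ∨ k % 3 = 2 := by omega
    rcases this with e | e | e <;> rw [e] at hk
    · exact absurd (by simpa using hk.symm) hx1
    · exact (by simpa using hk : a = x) ▸ IsConj.refl _
    · refine isConj_iff.2 ⟨na, hna'.trans (Eq.trans ?_ hk)⟩
      rw [inv_eq_iff_mul_eq_one, ← pow_succ']
      exact hcyc a haR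
  have hindep : c ∉ Subgroup.zpowers a := fun h => hij (hfc i j (hconj c h (hf j).2))
  have span : ∀ r ∈ (R : Subgroup G), ∃ k l : ℕ, r = a ^ k * c ^ l := by
    have hle : ∀ k l : ℕ, a ^ k * c ^ l ∈ (R : Subgroup G) := fun k l =>
      mul_mem (pow_mem haR k) (pow_mem hcR l)
    let F : Fin 3 × Fin 3 → ↥(R : Subgroup G) := fun p => ⟨_, hle p.1 p.2⟩
    have hinj : Function.Injective F := by
      rintro ⟨k, l⟩ ⟨k', l'⟩ e
      have e' : a ^ (k : ℕ) * c ^ (l : ℕ) = a ^ (k' : ℕ) * c ^ (l' : ℕ) := congrArg Subtype.val e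
      by_cases hll : l = l'
      · subst hll
        have := mul_right_cancel e'
        rw [pow_eq_pow_iff_modEq, hoa] at this
        exact Prod.ext (Fin.ext (Nat.ModEq.eq_of_lt_of_lt this k.2 k'.2)) rfl
      · exfalso
        apply hindep
        have e2 : c ^ ((l : ℤ) - l') = a ^ ((k' : ℤ) - k) := by
          rw [zpow_sub, zpow_sub, zpow_natCast, zpow_natCast, zpow_natCast, zpow_natCast]
          have h5 : c ^ (l : ℕ) = (a ^ (k : ℕ))⁻¹ * (a ^ (k' : ℕ) * c ^ (l' : ℕ)) := by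
            rw [← e', inv_mul_cancel_left]
          rw [h5, ← mul_assoc, mul_inv_cancel_right]
          exact ((Commute.refl a).pow_pow _ _).inv_left.eq
        have hcop : ((l : ℤ) - l').gcd 3 = 1 := by
          have : (l : ℕ) < 3 := l.2
          have : (l' : ℕ) < 3 := l'.2
          have : (l : ℕ) ≠ l' := fun h => hll (Fin.ext h)
          have hcase : (l : ℤ) - l' = 1 ∨ (l : ℤ) - l' = 2 ∨ (l : ℤ) - l' = -1 ∨ (l : ℤ) - l' = -2 := by
            omega
          rcases hcase with h | h | h | h <;> rw [h] <;> rfl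
        obtain ⟨u, v, huv⟩ := (Int.isCoprime_iff_gcd_eq_one.2 hcop)
        have h6 : c = (c ^ ((l : ℤ) - l')) ^ u := by
          conv_lhs => rw [← zpow_one c, ← huv, mul_comm u, zpow_add, zpow_mul, mul_comm v,
            zpow_mul, show c ^ (3 : ℤ) = 1 by simpa using (by exact_mod_cast hcyc c hcR : c ^ 3 = 1),
            one_zpow, mul_one]
        rw [h6, e2]
        exact Subgroup.zpow_mem _ (Subgroup.zpow_mem _ (Subgroup.mem_zpowers a) _) _
    have hsur := (Finite.injective_iff_surjective_of_equiv (Finite.equivFinOfCardEq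
      (α := ↥(R : Subgroup G)) hR |>.trans (finProdFinEquiv : Fin 3 × Fin 3 ≃ Fin (3 * 3)).symm).symm).1 hinj
    intro r hr
    obtain ⟨p, hp⟩ := hsur ⟨r, hr⟩
    exact ⟨p.1, p.2, (congrArg Subtype.val hp).symm⟩
  have hmul : ∀ m, ∀ k l : ℕ, m * (a ^ k * c ^ l) * m⁻¹ =
      (m * a * m⁻¹) ^ k * (m * c * m⁻¹) ^ l := fun m k l => by rw [conj_pow, conj_pow]; group
  by_cases hmix : ∃ n ∈ nrm R, (n * a * n⁻¹ = a⁻¹ ∧ n * c * n⁻¹ = c) ∨
      (n * a * n⁻¹ = a ∧ n * c * n⁻¹ = c⁻¹)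
  · have hcomp : ∀ m m' x : G, m * m' * x * (m * m')⁻¹ = m * (m' * x * m'⁻¹) * m⁻¹ :=
      fun m m' x => by group
    obtain ⟨n, hn, hcase⟩ := hmix
    have hinvc : ∀ (m x : G), m * x⁻¹ * m⁻¹ = (m * x * m⁻¹)⁻¹ := fun m x => by group
    refine Or.inr ⟨a, c, haR, hcR, hcyc a haR, hcyc c hcR, (hf i).2, (hf j).2, hindep, span,
      sa, sc, ?_, ?_⟩
    · rcases hcase with h | h
      · exact ⟨n, hn, h⟩
      · rcases sc na hna with h' | h'
        · exact ⟨na, hna, hna', h'⟩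
        · exact ⟨n * na, mul_mem hn hna, by rw [hcomp, hna', hinvc, h.1],
            by rw [hcomp, h', hinvc, h.2, inv_inv]⟩
    · rcases hcase with h | h
      · rcases sa nc hnc with h' | h'
        · exact ⟨nc, hnc, h', hnc'⟩
        · exact ⟨n * nc, mul_mem hn hnc, by rw [hcomp, h', hinvc, h.1, inv_inv],
            by rw [hcomp, hnc', hinvc, h.2]⟩
      · exact ⟨n, hn, h⟩
  · push Not at hmix
    have hpow : ∀ k l : ℕ, (a ^ k * c ^ l)⁻¹ = a⁻¹ ^ k * c⁻¹ ^ l := fun k l => by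
      rw [mul_inv_rev, inv_pow, inv_pow]
      exact comm_of_mem R (inv_mem (pow_mem hcR l)) (inv_mem (pow_mem haR k))
    refine Or.inl ⟨fun n hn => ?_, na, hna, ?_⟩
    · rcases sa n hn with h | h <;> rcases sc n hn with h' | h'
      · refine Or.inl fun r hr => ?_
        obtain ⟨k, l, rfl⟩ := span r hr
        rw [hmul, h, h']
      · exact absurd h' ((hmix n hn).2 h)
      · exact absurd h' ((hmix n hn).1 h)
      · refine Or.inr fun r hr => ?_
        obtain ⟨k, l, rfl⟩ := span r hr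
        rw [hmul, h, h', hpow]
    · intro r hr
      obtain ⟨k, l, rfl⟩ := span r hr
      rw [hmul, hna', (sc na hna).resolve_left ((hmix na hna).1 hna'), hpow]

end CfsgLib.InvChar.SecNine
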