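import Cfsg.Agent.Lib.Char.Orthogonality
import Cfsg.Agent.Lib.Char.Inner
import Cfsg.Agent.Lib.Char.Integral
import Cfsg.Agent.Lib.Char.Galois
import Cfsg.Agent.Lib.BlockA.Galois
import Cfsg.Agent.Lib.BlockB.ClassMul
import Mathlib

/-!
# Coefficient vectors of generalised characters
-/

set_option autoImplicit false
set_option linter.unusedSectionVars false

namespace CfsgLib.InvChar.SecNine

open scoped ComplexConjugate
open CfsgLib.Char

universe u

variable {G : Type u} [Group G] [Fintype G]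

/-- The principal character. -/
noncomputable def one1 (G : Type u) [Group G] : Cfsg.IrrCharacter G :=
  ⟨fun _ => 1, CfsgLib.Char.isIrrCharacter_one⟩

/-- Integral coefficients. -/
noncomputable def coef {f : G → ℂ} (hf : Cfsg.IsGeneralizedCharacter G f)
    (χ : Cfsg.IrrCharacter G) : ℤ :=
  (classInner_isGeneralized_int hf (isGeneralized_of_isCharacter (irr_isCharacter χ.2))).choose

theorem coef_cast {f : G → ℂ} (hf : Cfsg.IsGeneralizedCharacter G f) (χ : Cfsg.IrrCharacter G) :
    (coef hf χ : ℂ) = Cfsg.classInner f (χ : G → ℂ) :=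
  (classInner_isGeneralized_int hf
    (isGeneralized_of_isCharacter (irr_isCharacter χ.2))).choose_spec.symm

theorem eq_sum_coef [Fintype (Cfsg.IrrCharacter G)] {f : G → ℂ}
    (hf : Cfsg.IsGeneralizedCharacter G f) (g : G) :
    f g = ∑ χ : Cfsg.IrrCharacter G, (coef hf χ : ℂ) * (χ : G → ℂ) g := by
  conv_lhs => rw [classFunction_eq_sum (isGeneralized_isClassFunction hf)]
  rw [Finset.sum_apply]
  simp only [Pi.smul_apply, smul_eq_mul, coef_cast]

theorem inner_eq_sum [Fintype (Cfsg.IrrCharacter G)] {f f' : G → ℂ}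
    (hf : Cfsg.IsGeneralizedCharacter G f) (hf' : Cfsg.IsGeneralizedCharacter G f') :
    Cfsg.classInner f f' = ∑ χ : Cfsg.IrrCharacter G, ((coef hf χ * coef hf' χ : ℤ) : ℂ) := by
  have e : f' = ∑ χ : Cfsg.IrrCharacter G, (coef hf' χ : ℂ) • (χ : G → ℂ) := by
    funext g
    rw [eq_sum_coef hf' g, Finset.sum_apply]
    simp
  conv_lhs => rw [e]
  rw [classInner_sum_right]
  refine Finset.sum_congr rfl fun χ _ => ?_
  rw [classInner_smul_right, Int.cast_mul, coef_cast hf, map_intCast, mul_comm]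

theorem dot_eq [Fintype (Cfsg.IrrCharacter G)] {f f' : G → ℂ}
    (hf : Cfsg.IsGeneralizedCharacter G f) (hf' : Cfsg.IsGeneralizedCharacter G f') {k : ℤ}
    (h : Cfsg.classInner f f' = k) :
    ∑ χ : Cfsg.IrrCharacter G, coef hf χ * coef hf' χ = k := by
  apply Int.cast_injective (α := ℂ)
  rw [Int.cast_sum, ← h, inner_eq_sum hf hf']

theorem coef_one {f : G → ℂ} (hf : Cfsg.IsGeneralizedCharacter G f) {k : ℤ}
    (h : Cfsg.classInner f (fun _ => 1) = k) : coef hf (one1 G) = k :=
  Int.cast_injective (α := ℂ) ((coef_cast hf (one1 G)).trans h)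

/-- A vector of norm three with first entry one. -/
theorem exists_pair [Fintype (Cfsg.IrrCharacter G)] (c : Cfsg.IrrCharacter G → ℤ)
    (h1 : c (one1 G) = 1) (h3 : ∑ χ, c χ * c χ = 3) :
    ∃ Y X, Y ≠ X ∧ Y ≠ one1 G ∧ X ≠ one1 G ∧ (c Y = 1 ∨ c Y = -1) ∧ (c X = 1 ∨ c X = -1) ∧
      ∀ χ, χ ≠ one1 G → χ ≠ Y → χ ≠ X → c χ = 0 := by
  classical
  set S := (Finset.univ.erase (one1 G)).filter fun χ => c χ ≠ 0 with hS
  have hsum : ∑ χ ∈ S, c χ * c χ = 2 := by
    rw [hS, Finset.sum_filter]
    have := Finset.add_sum_erase Finset.univ (fun χ => c χ * c χ) (Finset.mem_univ (one1 G))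
    rw [h3, h1] at this
    have e : ∀ χ, (if c χ ≠ 0 then c χ * c χ else 0) = c χ * c χ := fun χ => by
      split_ifs with h
      · rfl
      · push Not at h; rw [h, mul_zero]
    simp only [e]
    linarith
  have hpos : ∀ χ ∈ S, 1 ≤ c χ * c χ := fun χ hχ => by
    have := (Finset.mem_filter.1 hχ).2
    nlinarith [mul_self_pos.2 this]
  have hle : S.card ≤ 2 := by
    have := Finset.card_nsmul_le_sum S _ (1 : ℤ) hpos
    rw [hsum, nsmul_eq_mul, mul_one] at this
    exact_mod_cast this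
  have hsmall : ∀ z : ℤ, z * z ≤ 2 → z = -1 ∨ z = 0 ∨ z = 1 := by
    intro z hz
    have : -1 ≤ z := by nlinarith
    have : z ≤ 1 := by nlinarith
    omega
  rcases Nat.lt_or_ge S.card 2 with hlt | hge
  · exfalso
    rcases Nat.le_one_iff_eq_zero_or_eq_one.1 (Nat.lt_succ_iff.1 hlt) with h | h
    · rw [Finset.card_eq_zero.1 h, Finset.sum_empty] at hsum; norm_num at hsum
    · obtain ⟨Y, hY⟩ := Finset.card_eq_one.1 h
      rw [hY, Finset.sum_singleton] at hsum
      rcases hsmall _ hsum.le with e | e | e <;> rw [e] at hsum <;> norm_num at hsum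
  · obtain ⟨Y, X, hne, hS2⟩ := Finset.card_eq_two.1 (le_antisymm hle hge)
    have hY : Y ∈ S := by rw [hS2]; exact Finset.mem_insert_self _ _
    have hX : X ∈ S := by rw [hS2]; exact Finset.mem_insert_of_mem (Finset.mem_singleton_self _)
    rw [hS2, Finset.sum_pair hne] at hsum
    have hY1 := hpos Y hY
    have hX1 := hpos X hX
    refine ⟨Y, X, hne, (Finset.mem_erase.1 (Finset.mem_filter.1 hY).1).1,
      (Finset.mem_erase.1 (Finset.mem_filter.1 hX).1).1, ?_, ?_, fun χ hχ1 hχY hχX => ?_⟩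
    · rcases hsmall (c Y) (by linarith) with e | e | e
      · exact Or.inr e
      · exact absurd e (Finset.mem_filter.1 hY).2
      · exact Or.inl e
    · rcases hsmall (c X) (by linarith) with e | e | e
      · exact Or.inr e
      · exact absurd e (Finset.mem_filter.1 hX).2
      · exact Or.inl e
    · by_contra h0
      have : χ ∈ S := Finset.mem_filter.2 ⟨Finset.mem_erase.2 ⟨hχ1, Finset.mem_univ _⟩, h0⟩
      rw [hS2, Finset.mem_insert, Finset.mem_singleton] at this
      exact this.elim hχY hχX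

/-- A sum over a vector supported on three characters. -/
theorem sum_three [Fintype (Cfsg.IrrCharacter G)] {A : Type*} [AddCommMonoid A]
    (F : Cfsg.IrrCharacter G → A) {Y X : Cfsg.IrrCharacter G} (hYX : Y ≠ X) (hY : Y ≠ one1 G)
    (hX : X ≠ one1 G) (h0 : ∀ χ, χ ≠ one1 G → χ ≠ Y → χ ≠ X → F χ = 0) :
    ∑ χ, F χ = F (one1 G) + F Y + F X := by
  classical
  rw [← Finset.sum_subset (Finset.subset_univ ({one1 G, Y, X} : Finset _)) fun χ _ hχ => by
    simp only [Finset.mem_insert, Finset.mem_singleton, not_or] at hχ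
    exact h0 χ hχ.1 hχ.2.1 hχ.2.2]
  rw [Finset.sum_insert (by simp [hY.symm, hX.symm]), Finset.sum_pair hYX, add_assoc]

/-- The degree as an integer. -/
noncomputable def deg (χ : Cfsg.IrrCharacter G) : ℕ := Cfsg.charDegree (χ : G → ℂ)

theorem deg_cast (χ : Cfsg.IrrCharacter G) : (χ : G → ℂ) 1 = (deg χ : ℂ) :=
  (CfsgLib.BlockB.charDegree_cast (irr_isCharacter χ.2)).symm

theorem deg_pos (χ : Cfsg.IrrCharacter G) : 0 < deg χ := by
  obtain ⟨χ, n, ρ, hρ, rfl⟩ := χ
  have h := deg_cast (⟨ρ.character, n, ρ, hρ, rfl⟩ : Cfsg.IrrCharacter G)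
  haveI := nontrivial_of_isIrreducible ρ
  simp only [Representation.char_one, Nat.cast_inj] at h
  rw [← h]
  exact Module.finrank_pos

/-- If `χ` is rational off a class-closed set... the singular indicator is integral. -/
theorem sum_div_isIntegral (χ : Cfsg.IrrCharacter G) (P : G → Prop) [DecidablePred P]
    (hP : ∀ g h, P (h * g * h⁻¹) ↔ P g) :
    IsIntegral ℤ ((Nat.card G : ℂ) *
      Cfsg.classInner (fun g => if P g then 1 else 0) (χ : G → ℂ) / (deg χ : ℂ)) := by
  obtain ⟨χ, n, ρ, hρ, rfl⟩ := χ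
  have h := classOp_scalar_isIntegral (f := fun g => if P g then (1 : ℂ) else 0)
    (fun g h => by simp only [hP]) (fun g => by split_ifs <;> [exact isIntegral_one;
      exact isIntegral_zero]) ρ
  have hd := deg_cast (⟨ρ.character, n, ρ, hρ, rfl⟩ : Cfsg.IrrCharacter G)
  simp only [Representation.char_one] at hd
  rwa [← hd]

end CfsgLib.InvChar.SecNine
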