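import Cfsg.Agent.Lib.InvChar.SecNine.Weights
import Cfsg.Agent.Lib.InvChar.SecNine.Vec
import Cfsg.Agent.Lib.TISylow.Structure

/-!
# Two rational irreducible characters with consecutive degrees prime to 3
-/

set_option autoImplicit false
set_option linter.unusedSectionVars false
set_option maxHeartbeats 800000

namespace CfsgLib.InvChar.SecNine

open scoped ComplexConjugate
open CfsgLib.Char

universe u

variable {G : Type u} [Group G] [Fintype G] {N M : ℕ} {R : Sylow 3 G}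

section Phi

variable [IsMulCommutative (R : Subgroup G)] [Fintype ↥(R : Subgroup G)]

/-- `2 - λ - λ⁻¹`. -/
noncomputable def phiL (l : ↥(R : Subgroup G) →* ℂˣ) (r : ↥(R : Subgroup G)) : ℂ :=
  2 - (l r : ℂ) - ((l⁻¹ : ↥(R : Subgroup G) →* ℂˣ) r : ℂ)

theorem phiL_one (l : ↥(R : Subgroup G) →* ℂˣ) : phiL l 1 = 0 := by simp [phiL]; norm_num

theorem phiL_inv (l : ↥(R : Subgroup G) →* ℂˣ) (r : ↥(R : Subgroup G)) :
    phiL l r⁻¹ = phiL l r := by
  simp [phiL, map_inv, sub_right_comm]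

theorem phiL_gen (l : ↥(R : Subgroup G) →* ℂˣ) :
    Cfsg.IsGeneralizedCharacter ↥(R : Subgroup G) (phiL l) := by
  have h : ∀ m : ↥(R : Subgroup G) →* ℂˣ,
      Cfsg.IsGeneralizedCharacter ↥(R : Subgroup G) (fun r => ((m r : ℂˣ) : ℂ)) := fun m =>
    isGeneralized_of_isCharacter (irr_isCharacter (isIrrCharacter_linear m))
  have := isGeneralized_sub (isGeneralized_sub (isGeneralized_add (h 1) (h 1)) (h l)) (h l⁻¹)
  convert this using 1
  funext r
  simp [phiL]
  norm_num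

theorem conj_lin (hR : Nat.card ↥(R : Subgroup G) = 9) (l : ↥(R : Subgroup G) →* ℂˣ)
    (r : ↥(R : Subgroup G)) : conj ((l r : ℂˣ) : ℂ) = ((l r : ℂˣ) : ℂ)⁻¹ := by
  refine (Complex.inv_eq_conj (Complex.norm_eq_one_of_pow_eq_one (n := 9) ?_ (by norm_num))).symm
  rw [← Units.val_pow_eq_pow_val, ← map_pow, ← hR, pow_card_eq_one', map_one, Units.val_one]

theorem conj_phiL (hR : Nat.card ↥(R : Subgroup G) = 9) (l : ↥(R : Subgroup G) →* ℂˣ)
    (r : ↥(R : Subgroup G)) : conj (phiL l r) = phiL l r := by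
  simp only [phiL, map_sub, map_ofNat, conj_lin hR, MonoidHom.inv_apply, Units.val_inv_eq_inv_val,
    inv_inv, map_inv₀]
  ring

theorem sum_lin' (hR : Nat.card ↥(R : Subgroup G) = 9) (m : ↥(R : Subgroup G) →* ℂˣ)
    [Decidable (m = 1)] :
    ∑ r : ↥(R : Subgroup G), ((m r : ℂˣ) : ℂ) = if m = 1 then 9 else 0 := by
  split_ifs with h
  · subst h
    simp only [MonoidHom.one_apply, Units.val_one, Finset.sum_const, Finset.card_univ,
      ← Nat.card_eq_fintype_card, hR, nsmul_eq_mul, mul_one]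
    norm_num
  · exact sum_hom_units_eq_zero ((Units.coeHom ℂ).comp m) fun e => h (MonoidHom.ext fun r =>
      Units.ext (DFunLike.congr_fun e r))

theorem pow_nine_lin (hR : Nat.card ↥(R : Subgroup G) = 9) (l : ↥(R : Subgroup G) →* ℂˣ) :
    l ^ 9 = 1 := by
  ext r
  rw [MonoidHom.pow_apply, ← map_pow, ← hR, pow_card_eq_one', map_one, MonoidHom.one_apply]

theorem inv_ne_self (hR : Nat.card ↥(R : Subgroup G) = 9) {l : ↥(R : Subgroup G) →* ℂˣ}
    (hl : l ≠ 1) : l⁻¹ ≠ l := by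
  intro e
  refine hl ?_
  have h2 : l ^ 2 = 1 := by rw [pow_two]; nth_rewrite 1 [← e]; exact inv_mul_cancel l
  simpa using pow_gcd_eq_one.2 ⟨pow_nine_lin hR l, h2⟩

end Phi

/-- The statement wanted of a pair of characters. -/
def GoodPair (G : Type u) [Group G] [Fintype G] : Prop :=
  ∃ Y X : Cfsg.IrrCharacter G, (∀ n : ℕ, n.Coprime (Nat.card G) → ∀ g,
      (Y : G → ℂ) (g ^ n) = (Y : G → ℂ) g) ∧
    (∀ n : ℕ, n.Coprime (Nat.card G) → ∀ g, (X : G → ℂ) (g ^ n) = (X : G → ℂ) g) ∧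
    deg X = deg Y + 1 ∧ 1 < deg Y ∧ ¬ 3 ∣ deg Y ∧ ¬ 3 ∣ deg X

/-- A norm three vector vanishing at the identity gives consecutive degrees. -/
theorem degree_eq [IsSimpleGroup G] (hG : ¬ IsMulCommutative G) [Fintype (Cfsg.IrrCharacter G)]
    {f : G → ℂ} (hf : Cfsg.IsGeneralizedCharacter G f) (h1 : f 1 = 0)
    (hc : coef hf (one1 G) = 1) {Y X : Cfsg.IrrCharacter G} (hYX : Y ≠ X) (hY : Y ≠ one1 G)
    (hX : X ≠ one1 G) (h0 : ∀ χ, χ ≠ one1 G → χ ≠ Y → χ ≠ X → coef hf χ = 0) :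
    (1 : ℤ) + coef hf Y * deg Y + coef hf X * deg X = 0 ∧ 1 < deg Y ∧ 1 < deg X := by
  have hlin : ∀ χ : Cfsg.IrrCharacter G, χ ≠ one1 G → 1 < deg χ := by
    intro χ hχ
    refine lt_of_le_of_ne (deg_pos χ) fun e => hχ (Subtype.ext ?_)
    refine CfsgLib.TISylow.linear_eq_one ?_ χ.2 (by rw [deg_cast, ← e, Nat.cast_one])
    by_contra hcon
    push Not at hcon
    exact hG ⟨⟨hcon⟩⟩
  refine ⟨?_, hlin Y hY, hlin X hX⟩
  have h := eq_sum_coef hf 1
  rw [h1, sum_three _ hYX hY hX fun χ a b c => by rw [h0 χ a b c, Int.cast_zero, zero_mul],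
    show (one1 G : G → ℂ) 1 = 1 from rfl, deg_cast, deg_cast, hc] at h
  apply Int.cast_injective (α := ℂ)
  push_cast at h ⊢
  linear_combination -h

theorem finish_pair [IsSimpleGroup G] (hG : ¬ IsMulCommutative G) [Fintype (Cfsg.IrrCharacter G)]
    {f : G → ℂ} (hf : Cfsg.IsGeneralizedCharacter G f) (h1 : f 1 = 0)
    (hrat : ∀ n : ℕ, n.Coprime (Nat.card G) → ∀ g, f (g ^ n) = f g)
    (hc : coef hf (one1 G) = 1) {Y X : Cfsg.IrrCharacter G} (hYX : Y ≠ X) (hY : Y ≠ one1 G)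
    (hX : X ≠ one1 G) (hYc : coef hf Y = 1 ∨ coef hf Y = -1)
    (hXc : coef hf X = 1 ∨ coef hf X = -1)
    (h0 : ∀ χ, χ ≠ one1 G → χ ≠ Y → χ ≠ X → coef hf χ = 0)
    (h3Y : ¬ 3 ∣ deg Y) (h3X : ¬ 3 ∣ deg X) : GoodPair G := by
  obtain ⟨he, hy1, hx1⟩ := degree_eq hG hf h1 hc hYX hY hX h0
  have hne : deg Y ≠ deg X := by
    rcases hYc with a | a <;> rcases hXc with b | b <;> rw [a, b] at he <;> omega
  have hfix : ∀ χ : Cfsg.IrrCharacter G, (χ = Y ∨ χ = X) → ∀ n : ℕ, n.Coprime (Nat.card G) →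
      ∀ g, (χ : G → ℂ) (g ^ n) = (χ : G → ℂ) g := by
    intro χ hχ n hn g
    let σ : Cfsg.IrrCharacter G :=
      ⟨fun g => (χ : G → ℂ) (g ^ n), CfsgLib.BlockA.isIrrCharacter_comp_pow hn χ.2⟩
    have hσ1 : deg σ = deg χ := by
      have := deg_cast σ
      rw [show (σ : G → ℂ) 1 = (χ : G → ℂ) (1 ^ n) from rfl, one_pow, deg_cast] at this
      exact_mod_cast this.symm
    have hσc : coef hf σ = coef hf χ := by
      apply Int.cast_injective (α := ℂ)
      rw [coef_cast, coef_cast, ← CfsgLib.BlockA.classInner_comp_pow hn f (χ : G → ℂ)]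
      congr 1
      funext g
      exact (hrat n hn g).symm
    have hσ0 : coef hf χ ≠ 0 := by
      rcases hχ with rfl | rfl
      · rcases hYc with a | a <;> omega
      · rcases hXc with a | a <;> omega
    have hσone : σ ≠ one1 G := fun e => by
      have h2 : deg (one1 G) = 1 := by
        have := deg_cast (one1 G)
        simp [one1] at this ⊢
        exact_mod_cast this.symm
      rw [e, h2] at hσ1
      rcases hχ with rfl | rfl <;> omega
    have hσeq : σ = χ := by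
      by_contra hne'
      have hother : σ = Y ∨ σ = X := by
        by_contra hcon
        push Not at hcon
        exact hσ0 (hσc ▸ h0 σ hσone hcon.1 hcon.2)
      rcases hother with e | e <;> rcases hχ with e' | e' <;> rw [e, e'] at hσ1 hne'
      · exact hne' rfl
      · exact hne hσ1
      · exact hne hσ1.symm
      · exact hne' rfl
    exact congrFun (congrArg Subtype.val hσeq) g
  rcases hYc with a | a <;> rcases hXc with b | b <;> rw [a, b] at he
  · omega
  · exact ⟨Y, X, hfix Y (Or.inl rfl), hfix X (Or.inr rfl), by omega, hy1, h3Y, h3X⟩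
  · exact ⟨X, Y, hfix X (Or.inr rfl), hfix Y (Or.inl rfl), by omega, hx1, h3X, h3Y⟩
  · omega

/-- The basic data. -/
structure Data (R : Sylow 3 G) (N M : ℕ) : Prop where
  exp : Exp G N
  card : Nat.card G = 9 * M
  cop : ¬ 3 ∣ M
  dvd : M ∣ N
  mod : N ≡ 1 [MOD 9]
  nine : Nat.card ↥(R : Subgroup G) = 9

open scoped Classical in
/-- Divisibility by 3 passes from degrees to singular coefficients. -/
theorem Data.three_dvd (D : Data R N M) (χ : Cfsg.IrrCharacter G) (s c : ℤ)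
    (hc : (c : ℂ) = s * 9 * Cfsg.classInner (fun g => if g ^ N = 1 then (0 : ℂ) else 1) (χ : G → ℂ))
    (hs : ¬ 3 ∣ deg χ → False) : (3 : ℤ) ∣ c := by
  classical
  have hint := sum_div_isIntegral χ (fun g => ¬ g ^ N = 1) fun g h => by
    rw [conj_pow', conj_eq_one_iff]
  have hd3 : 3 ∣ deg χ := by by_contra h; exact hs h
  set S := Cfsg.classInner (fun g => if g ^ N = 1 then (0 : ℂ) else 1) (χ : G → ℂ) with hS
  have he : (fun g : G => if ¬ g ^ N = 1 then (1 : ℂ) else 0) =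
      fun g => if g ^ N = 1 then (0 : ℂ) else 1 := by funext g; split_ifs <;> rfl
  rw [he, ← hS] at hint
  have hd : (deg χ : ℂ) ≠ 0 := Nat.cast_ne_zero.2 (deg_pos χ).ne'
  have hM : ((c * M : ℤ) : ℂ) = (s : ℂ) * deg χ * ((Nat.card G : ℂ) * S / deg χ) := by
    push_cast
    rw [hc, D.card]
    push_cast
    field_simp
  rcases eq_or_ne s 0 with rfl | hs0
  · have : c = 0 := by
      apply Int.cast_injective (α := ℂ)
      rw [hc]; simp
    rw [this]; exact dvd_zero _
  have hq : (((c * M : ℤ) : ℚ) / ((s : ℚ) * deg χ) : ℚ) =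
      ((Nat.card G : ℂ) * S / deg χ) := by
    have hs' : (s : ℂ) ≠ 0 := Int.cast_ne_zero.2 hs0
    push_cast at hM ⊢
    rw [hM]
    field_simp
  obtain ⟨k, hk⟩ := exists_int_of_isIntegral_rat
    (q := ((c * M : ℤ) : ℚ) / ((s : ℚ) * deg χ)) (by rw [hq]; exact hint)
  have hk' : c * M = k * (s * deg χ) := by
    rw [div_eq_iff (mul_ne_zero (Int.cast_ne_zero.2 hs0)
      (Nat.cast_ne_zero.2 (deg_pos χ).ne'))] at hk
    exact_mod_cast hk
  have h3 : (3 : ℤ) ∣ c * M := by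
    rw [hk']
    exact dvd_mul_of_dvd_right (dvd_mul_of_dvd_right (Int.natCast_dvd_natCast.2 hd3) s) k
  rcases (Int.prime_three).dvd_or_dvd h3 with h | h
  · exact h
  · exact absurd (Int.natCast_dvd_natCast.1 h) D.cop

theorem lift_pow [IsMulCommutative (R : Subgroup G)] {φ : ↥(R : Subgroup G) → ℂ} (hφ : Stable R φ)
    (hE : Exp G N) {n : ℕ} (hn : ∀ r, φ (r ^ n) = φ r) (g : G) :
    lift R N φ (g ^ n) = lift R N φ g := by
  obtain ⟨r, hr⟩ := exists_rep (R := R) hE g
  have h2 : IsConj (((r ^ n : ↥(R : Subgroup G))) : G) ((g ^ n) ^ N) := by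
    rw [← pow_mul, mul_comm n N, pow_mul, SubmonoidClass.coe_pow]
    obtain ⟨h, hh⟩ := isConj_iff.1 hr
    exact isConj_iff.2 ⟨h, by rw [← hh, conj_pow]⟩
  rw [lift, lift, phi_of_isConj hφ h2, phi_of_isConj hφ hr, hn]

section Weighted

variable [IsMulCommutative (R : Subgroup G)] [Fintype ↥(R : Subgroup G)]

theorem Data.inner (D : Data R N M) {φ ψ : ↥(R : Subgroup G) → ℂ} (hφ : Stable R φ)
    (hψ : Stable R ψ) : Cfsg.classInner (lift R N φ) (lift R N ψ) =
      ∑ r : ↥(R : Subgroup G), W R N (r : G) * (φ r * conj (ψ r)) := by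
  rw [classInner_lift D.exp (fun r hr => pow_nine R D.nine hr) hφ hψ]
  refine Finset.sum_congr rfl fun r _ => ?_
  rw [W]; ring

theorem stable_one : Stable R (fun _ => (1 : ℂ)) := fun _ _ _ => rfl

open scoped Classical in
theorem lift_const : lift R N (fun _ => (1 : ℂ)) = fun g : G =>
    if ∃ r : ↥(R : Subgroup G), IsConj (r : G) (g ^ N) then (1 : ℂ) else 0 := by
  classical
  funext g
  simp only [lift, phi]
  split_ifs <;> rfl

theorem Data.inner_one (D : Data R N M) {φ : ↥(R : Subgroup G) → ℂ} (hφ : Stable R φ) :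
    Cfsg.classInner (lift R N φ) (fun _ => (1 : ℂ)) =
      ∑ r : ↥(R : Subgroup G), W R N (r : G) * φ r := by
  have e : (fun _ : G => (1 : ℂ)) = lift R N (fun _ => (1 : ℂ)) := by
    classical
    rw [lift_const]
    funext g
    rw [if_pos (exists_rep (R := R) D.exp g)]
  rw [e, D.inner hφ stable_one]
  simp

theorem Data.gen (D : Data R N M) {φ : ↥(R : Subgroup G) → ℂ} (hφ : Stable R φ)
    (hgen : Cfsg.IsGeneralizedCharacter ↥(R : Subgroup G) φ) :
    Cfsg.IsGeneralizedCharacter G (lift R N φ) :=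
  lift_isGeneralized D.exp D.card D.cop D.dvd D.mod hφ hgen

theorem Data.lift_one (D : Data R N M) {φ : ↥(R : Subgroup G) → ℂ} (hφ : Stable R φ)
    (h : φ 1 = 0) : lift R N φ (1 : G) = 0 := by
  rw [lift_one_part hφ (one_pow N), h]

theorem conj_in_nrm {r s : ↥(R : Subgroup G)} (h : IsConj (r : G) (s : G)) :
    ∃ n ∈ nrm R, n * (r : G) * n⁻¹ = (s : G) :=
  (orb_mem_iff R r.2).1 (by simpa [orb, isConj_iff] using h)

end Weighted

end CfsgLib.InvChar.SecNine
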