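import Cfsg.Agent.Lib.InvChar.SecNine.Section

/-!
# Generalised characters depending only on the 3-part; the count of elements of trivial 3-part
-/

set_option autoImplicit false
set_option linter.unusedSectionVars false

namespace CfsgLib.InvChar.SecNine

open scoped ComplexConjugate

universe u

variable {G : Type u} [Group G] [Finite G] {N : ℕ}

theorem isGeneralized_comp {H : Type u} [Group H] [Finite H] {θ : G → ℂ}
    (hθ : Cfsg.IsGeneralizedCharacter G θ) (f : H →* G) :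
    Cfsg.IsGeneralizedCharacter H (θ ∘ f) := by
  obtain ⟨a, b, ha, hb, rfl⟩ := hθ
  exact ⟨a ∘ f, b ∘ f, CfsgLib.Char.isCharacter_comp ha f, CfsgLib.Char.isCharacter_comp hb f, rfl⟩

section Lift

variable (R : Sylow 3 G)

/-- `φ` is constant on the `G`-classes in `R`. -/
def Stable (φ : ↥(R : Subgroup G) → ℂ) : Prop :=
  ∀ r s : ↥(R : Subgroup G), IsConj (r : G) (s : G) → φ r = φ s

open scoped Classical in
/-- Extension of `φ` to the elements conjugate into `R`. -/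
noncomputable def phi (φ : ↥(R : Subgroup G) → ℂ) (z : G) : ℂ :=
  if h : ∃ r : ↥(R : Subgroup G), IsConj (r : G) z then φ h.choose else 0

/-- The function of the 3-part given by `φ`. -/
noncomputable def lift (N : ℕ) (φ : ↥(R : Subgroup G) → ℂ) (g : G) : ℂ := phi R φ (g ^ N)

variable {R}

theorem phi_of_isConj {φ : ↥(R : Subgroup G) → ℂ} (hφ : Stable R φ) {r : ↥(R : Subgroup G)}
    {z : G} (h : IsConj (r : G) z) : phi R φ z = φ r := by
  have he : ∃ r : ↥(R : Subgroup G), IsConj (r : G) z := ⟨r, h⟩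
  rw [phi, dif_pos he]
  exact hφ _ _ (he.choose_spec.trans h.symm)

theorem phi_apply {φ : ↥(R : Subgroup G) → ℂ} (hφ : Stable R φ) (r : ↥(R : Subgroup G)) :
    phi R φ (r : G) = φ r :=
  phi_of_isConj hφ (IsConj.refl _)

theorem phi_conj {φ : ↥(R : Subgroup G) → ℂ} (hφ : Stable R φ) (g h : G) :
    phi R φ (h * g * h⁻¹) = phi R φ g := by
  by_cases he : ∃ r : ↥(R : Subgroup G), IsConj (r : G) g
  · obtain ⟨r, hr⟩ := he
    rw [phi_of_isConj hφ hr, phi_of_isConj hφ (hr.trans (isConj_iff.2 ⟨h, rfl⟩))]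
  · rw [phi, phi, dif_neg he, dif_neg]
    rintro ⟨r, hr⟩
    exact he ⟨r, hr.trans (isConj_iff.2 ⟨h, rfl⟩ : IsConj g _).symm⟩

theorem lift_apply {φ : ↥(R : Subgroup G) → ℂ} (hφ : Stable R φ) (hE : Exp G N)
    (hR : ∀ r ∈ (R : Subgroup G), r ^ 9 = 1) (r : ↥(R : Subgroup G)) :
    lift R N φ (r : G) = φ r := by
  rw [lift, hE.fix _ (hR _ r.2), phi_apply hφ]

theorem lift_one_part {φ : ↥(R : Subgroup G) → ℂ} (hφ : Stable R φ) {g : G} (hg : g ^ N = 1) :
    lift R N φ g = φ 1 := by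
  rw [lift, hg]
  exact phi_apply hφ (1 : ↥(R : Subgroup G))

theorem lift_isClassFunction {φ : ↥(R : Subgroup G) → ℂ} (hφ : Stable R φ) :
    Cfsg.IsClassFunction G (lift R N φ) := fun g h => by
  rw [lift, conj_pow', phi_conj hφ, lift]

/-- Any element of `G` has a 3-part conjugate into `R`. -/
theorem exists_rep (hE : Exp G N) (g : G) :
    ∃ r : ↥(R : Subgroup G), IsConj (r : G) (g ^ N) := by
  obtain ⟨h, hh⟩ := conj_mem_sylow R (hE.pow9 g)
  exact ⟨⟨_, hh⟩, (isConj_iff.2 ⟨h, rfl⟩ : IsConj (g ^ N) _).symm⟩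

theorem central_of_pow9 {p : ℕ} (hp : p.Prime) {E : Type u} [Group E] [Finite E]
    (hE : Cfsg.IsElementary p E) (Q : Sylow 3 E) (hQ : ∀ a ∈ (Q : Subgroup E), ∀ b ∈ (Q : Subgroup E),
      a * b = b * a) : (Q : Subgroup E) ≤ Subgroup.center E := by
  haveI := Fact.mk Nat.prime_three
  obtain ⟨x, hx, hcop, k, hk⟩ := hE
  intro y hy
  by_cases hp3 : p = 3
  · subst hp3
    rw [Subgroup.mem_center_iff]
    have htop : Subgroup.centralizer ({y} : Set E) = ⊤ := by
      refine Subgroup.eq_top_of_card_eq _ (Nat.dvd_antisymm (Subgroup.card_subgroup_dvd_card _) ?_)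
      obtain ⟨j, hj⟩ := IsPGroup.iff_card.1 Q.isPGroup'
      have h1 : Nat.card ↥(Subgroup.zpowers x) ∣
          Nat.card ↥(Subgroup.centralizer ({y} : Set E)) :=
        Subgroup.card_dvd_of_le (Subgroup.zpowers_le.2 (Subgroup.mem_centralizer_singleton_iff.2
          ((Subgroup.mem_center_iff.1 hx y).symm)))
      have h2 : Nat.card ↥(Q : Subgroup E) ∣ Nat.card ↥(Subgroup.centralizer ({y} : Set E)) :=
        Subgroup.card_dvd_of_le fun a ha => Subgroup.mem_centralizer_singleton_iff.2 (hQ a ha y hy)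
      have h3 : Nat.Coprime (Nat.card ↥(Subgroup.zpowers x)) 3 := by rwa [Nat.card_zpowers]
      have h4 : (Nat.card E).factorization 3 = j := by
        have := Q.card_eq_multiplicity
        rw [hj] at this
        exact (Nat.pow_right_injective (by norm_num : 2 ≤ 3) this).symm
      have hkj : 3 ^ k ∣ Nat.card ↥(Q : Subgroup E) := by
        rw [hj, ← h4]
        exact (Nat.prime_three.pow_dvd_iff_le_factorization Nat.card_pos.ne').1
          (hk ▸ Subgroup.index_dvd_card _) |> Nat.pow_dvd_pow 3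
      rw [← Subgroup.card_mul_index (Subgroup.zpowers x), hk]
      exact Nat.Coprime.mul_dvd_of_dvd_of_dvd (h3.pow_right k) h1 (hkj.trans h2)
    intro g
    exact Subgroup.mem_centralizer_singleton_iff.1 (htop ▸ Subgroup.mem_top g)
  · haveI : (Subgroup.zpowers x).Normal :=
      ⟨fun a ha g => by
        rw [Subgroup.mem_center_iff.1 (Subgroup.zpowers_le.2 hx ha) g, mul_inv_cancel_right]
        exact ha⟩
    refine Subgroup.zpowers_le.2 hx ((QuotientGroup.eq_one_iff y).1 ?_)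
    obtain ⟨j, hj⟩ := Q.isPGroup' ⟨y, hy⟩
    have h1 : ((y : E ⧸ Subgroup.zpowers x)) ^ 3 ^ j = 1 := by
      rw [← QuotientGroup.mk_pow, show y ^ 3 ^ j = 1 by simpa using congrArg Subtype.val hj,
        QuotientGroup.mk_one]
    have h2 : ((y : E ⧸ Subgroup.zpowers x)) ^ p ^ k = 1 := by
      rw [← hk, Subgroup.index]
      exact pow_card_eq_one'
    have hc : Nat.Coprime (3 ^ j) (p ^ k) :=
      ((Nat.coprime_primes Nat.prime_three hp).2 (Ne.symm hp3)).pow j k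
    have := pow_gcd_eq_one.2 ⟨h1, h2⟩
    rwa [Nat.Coprime.gcd_eq_one hc, pow_one] at this

theorem lift_isGeneralized [IsMulCommutative (R : Subgroup G)] (hE : Exp G N) {M : ℕ}
    (hM : Nat.card G = 9 * M) (h3 : ¬ 3 ∣ M) (hMN : M ∣ N) (hN1 : N ≡ 1 [MOD 9])
    {φ : ↥(R : Subgroup G) → ℂ} (hφ : Stable R φ)
    (hgen : Cfsg.IsGeneralizedCharacter ↥(R : Subgroup G) φ) :
    Cfsg.IsGeneralizedCharacter G (lift R N φ) := by
  haveI := Fact.mk Nat.prime_three
  haveI := Fintype.ofFinite G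
  letI : CommGroup ↥(R : Subgroup G) :=
    { (inferInstance : Group ↥(R : Subgroup G)) with mul_comm := mul_comm' }
  refine CfsgLib.Char.brauer_characterization (lift_isClassFunction hφ) fun E p hp hEl => ?_
  obtain ⟨Q⟩ : Nonempty (Sylow 3 ↥E) := Sylow.nonempty
  have hQ3 : IsPGroup 3 ((Q : Subgroup ↥E).map E.subtype) := Q.isPGroup'.map _
  obtain ⟨Q', hQ'⟩ := hQ3.exists_le_sylow
  obtain ⟨h, hh⟩ := MulAction.exists_smul_eq G Q' R
  have hmem : ∀ y : ↥(Q : Subgroup ↥E), h * ((y : ↥E) : G) * h⁻¹ ∈ (R : Subgroup G) := by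
    intro y
    rw [← hh, Sylow.coe_subgroup_smul, Subgroup.mem_pointwise_smul_iff_inv_smul_mem]
    simpa [MulAut.smul_def, mul_assoc] using hQ' (Subgroup.mem_map_of_mem E.subtype y.2)
  have hQc : ∀ a ∈ (Q : Subgroup ↥E), ∀ b ∈ (Q : Subgroup ↥E), a * b = b * a := by
    intro a ha b hb
    have h1 := congrArg (fun t : ↥(R : Subgroup G) => h⁻¹ * (t : G) * h)
      (mul_comm' (⟨_, hmem ⟨a, ha⟩⟩ : ↥(R : Subgroup G)) ⟨_, hmem ⟨b, hb⟩⟩)
    exact Subtype.ext (by simpa [mul_assoc] using h1)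
  have hcen := central_of_pow9 hp hEl Q hQc
  let ι : ↥(Q : Subgroup ↥E) →* ↥(R : Subgroup G) :=
    MonoidHom.mk' (fun y => ⟨_, hmem y⟩) fun a b => Subtype.ext (by simp [mul_assoc])
  have key : ∀ (g : ↥E) (k : ℕ) (g₀ : ↥E), g₀⁻¹ * g ^ k * g₀ ∈ (Q : Subgroup ↥E) →
      g₀⁻¹ * g ^ k * g₀ = g ^ k := by
    intro g k g₀ hm
    have h1 := Subgroup.mem_center_iff.1 (hcen hm) g₀
    calc g₀⁻¹ * g ^ k * g₀ = g₀ * (g₀⁻¹ * g ^ k * g₀) * g₀⁻¹ := by
          rw [h1, mul_inv_cancel_right]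
      _ = g ^ k := by group
  obtain ⟨i, hi⟩ : ∃ i, Nat.card ↥(Q : Subgroup ↥E) = 3 ^ i := IsPGroup.iff_card.1 Q.isPGroup'
  set m := (Q : Subgroup ↥E).index with hm
  have hcard : Nat.card ↥E = 3 ^ i * m := by rw [← hi, hm, Subgroup.card_mul_index]
  have hmc : Nat.Coprime m 3 := (Nat.prime_three.coprime_iff_not_dvd.2 Q.not_dvd_index).symm
  have hdvd : 3 ^ i * m ∣ 9 * M :=
    hcard ▸ hM ▸ Subgroup.card_subgroup_dvd_card E
  have hmM : m ∣ M := (Nat.Coprime.pow_right 2 hmc).dvd_of_dvd_mul_left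
    ((dvd_mul_left m _).trans hdvd)
  have hi9 : 3 ^ i ∣ 9 := ((Nat.prime_three.coprime_iff_not_dvd.2 h3).pow_left i).dvd_of_dvd_mul_right
    ((dvd_mul_right _ m).trans hdvd)
  obtain ⟨s, -, hs⟩ : ∃ s, s < 9 ∧ m * s ≡ 1 [MOD 9] := by
    obtain ⟨s, hs⟩ := Nat.exists_mul_mod_eq_one_of_coprime (Nat.Coprime.pow_right 2 hmc)
      (by norm_num)
    exact ⟨s, hs.1, hs.2⟩
  let μ : ↥E →* ↥(R : Subgroup G) := (powMonoidHom s).comp (MonoidHom.transfer ι)
  have hμ : ∀ g : ↥E, phi R φ ((g : G) ^ N) = φ (μ g) := by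
    intro g
    refine phi_of_isConj hφ (isConj_iff.2 ⟨h⁻¹, ?_⟩)
    have hval : ((μ g : ↥(R : Subgroup G)) : G) = h * ((g : G) ^ (m * s)) * h⁻¹ := by
      simp only [μ, MonoidHom.comp_apply, powMonoidHom_apply,
        MonoidHom.transfer_eq_pow ι g (key g), SubmonoidClass.coe_pow, ι, MonoidHom.mk'_apply]
      rw [conj_pow', ← pow_mul]
    have hmod : m * s ≡ N [MOD orderOf (g : G)] := by
      have h1 : m * s ≡ N [MOD 3 ^ i * m] :=
        (Nat.modEq_and_modEq_iff_modEq_mul ((hmc.pow_right i).symm)).1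
          ⟨(hs.trans hN1.symm).of_dvd hi9,
            (Nat.modEq_zero_iff_dvd.2 (dvd_mul_right m s)).trans
              (Nat.modEq_zero_iff_dvd.2 (hmM.trans hMN)).symm⟩
      refine h1.of_dvd ?_
      rw [Subgroup.orderOf_coe, ← hcard]
      exact orderOf_dvd_natCard g
    rw [hval, pow_eq_pow_iff_modEq.2 hmod, inv_inv]
    group
  have e : (fun g : ↥E => lift R N φ (g : G)) = φ ∘ μ := funext fun g => hμ g
  rw [e]
  exact isGeneralized_comp hgen μ

theorem classInner_lift [Fintype G] [Fintype ↥(R : Subgroup G)] [IsMulCommutative (R : Subgroup G)]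
    (hE : Exp G N) (hR : ∀ r ∈ (R : Subgroup G), r ^ 9 = 1)
    {φ ψ : ↥(R : Subgroup G) → ℂ} (hφ : Stable R φ) (hψ : Stable R ψ) :
    Cfsg.classInner (lift R N φ) (lift R N ψ) = ∑ r : ↥(R : Subgroup G),
      wt R (r : G) * ((reg N (Subgroup.centralizer ({(r : G)} : Set G)) : ℂ) * (φ r * conj (ψ r))) := by
  have h := sum_comp R hE hR (fun z => phi R φ z * conj (phi R ψ z))
    (fun g h => by simp only [phi_conj hφ, phi_conj hψ])
  rw [Cfsg.classInner]
  simp only [lift]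
  rw [h, ← mul_assoc, inv_mul_cancel₀ (Nat.cast_ne_zero.2 Nat.card_pos.ne'), one_mul]
  simp only [phi_apply hφ, phi_apply hψ]

end Lift

/-- Counting a subgroup `H ⊇ R` by 3-parts. -/
theorem reg_sum (R : Sylow 3 G) [Fintype ↥(R : Subgroup G)] [IsMulCommutative (R : Subgroup G)]
    (hE : Exp G N) (hR : ∀ r ∈ (R : Subgroup G), r ^ 9 = 1) (H : Subgroup G)
    (hH : (R : Subgroup G) ≤ H) :
    ∑ r : ↥(R : Subgroup G), (Nat.card ↥(H ⊓ cN R (r : G)) : ℂ) /
      ((Nat.card ↥(H ⊓ nrm R) : ℂ) * Nat.card ↥(H ⊓ Subgroup.centralizer ({(r : G)} : Set G))) *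
        reg N (H ⊓ Subgroup.centralizer ({(r : G)} : Set G)) = 1 := by
  classical
  haveI := Fintype.ofFinite ↥H
  set S : Sylow 3 ↥H := R.subtype hH with hS
  have hSmem : ∀ a : ↥H, a ∈ (S : Subgroup ↥H) ↔ (a : G) ∈ (R : Subgroup G) := fun a => by
    rw [hS, Sylow.coe_subtype, Subgroup.mem_subgroupOf]
  haveI : IsMulCommutative (S : Subgroup ↥H) := ⟨⟨fun a b => Subtype.ext (Subtype.ext (by
    simpa using congrArg Subtype.val
      (mul_comm' (⟨_, (hSmem _).1 a.2⟩ : ↥(R : Subgroup G)) ⟨_, (hSmem _).1 b.2⟩)))⟩⟩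
  haveI := Fintype.ofFinite ↥(S : Subgroup ↥H)
  have hS9 : ∀ r ∈ (S : Subgroup ↥H), r ^ 9 = 1 := fun r hr =>
    Subtype.ext (by simpa using hR _ ((hSmem r).1 hr))
  have h := sum_comp S (hE.subgroup H) hS9 (fun _ => (1 : ℂ)) (fun _ _ => rfl)
  simp only [Finset.sum_const, nsmul_eq_mul, mul_one, Finset.card_univ,
    ← Nat.card_eq_fintype_card] at h
  have hH0 : (Nat.card ↥H : ℂ) ≠ 0 := Nat.cast_ne_zero.2 Nat.card_pos.ne'
  have h1 := mul_left_cancel₀ hH0 ((mul_one (Nat.card ↥H : ℂ)).trans h)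
  refine Eq.trans ?_ h1.symm
  refine Fintype.sum_equiv
    { toFun := fun r => ⟨⟨r, hH r.2⟩, (hSmem _).2 r.2⟩
      invFun := fun r => ⟨(r : G), (hSmem _).1 r.2⟩
      left_inv := fun r => rfl
      right_inv := fun r => rfl } _ _ fun r => ?_
  have hnr : ∀ a : ↥H, a ∈ nrm S ↔ (a : G) ∈ nrm R := by
    intro a
    simp only [Subgroup.mem_normalizer_iff, SetLike.mem_coe]
    constructor
    · intro h2 b
      refine ⟨fun hb => ?_, fun hb => ?_⟩
      · simpa using (hSmem _).1 ((h2 ⟨b, hH hb⟩).1 ((hSmem _).2 hb))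
      · have hbH : b ∈ H := by
          have := mul_mem (mul_mem (inv_mem a.2) (hH hb)) a.2
          simpa [mul_assoc] using this
        exact (hSmem _).1 ((h2 ⟨b, hbH⟩).2 ((hSmem _).2 (by simpa using hb)))
    · intro h2 b
      rw [hSmem, hSmem]
      simpa using h2 (b : G)
  have hce : ∀ a : ↥H, a ∈ Subgroup.centralizer ({⟨(r : G), hH r.2⟩} : Set ↥H) ↔
      (a : G) ∈ Subgroup.centralizer ({(r : G)} : Set G) := fun a => by
    simp [Subgroup.mem_centralizer_singleton_iff, Subtype.ext_iff]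
  have hcard : ∀ (K : Subgroup G) (L : Subgroup ↥H), (∀ a : ↥H, a ∈ L ↔ (a : G) ∈ K) →
      Nat.card ↥L = Nat.card ↥(H ⊓ K) := fun K L hK => Nat.card_congr
    { toFun := fun a => ⟨(a : G), a.1.2, (hK _).1 a.2⟩
      invFun := fun a => ⟨⟨(a : G), a.2.1⟩, (hK _).2 a.2.2⟩
      left_inv := fun a => rfl
      right_inv := fun a => rfl }
  have hreg : reg N (Subgroup.centralizer ({⟨(r : G), hH r.2⟩} : Set ↥H)) =
      reg N (H ⊓ Subgroup.centralizer ({(r : G)} : Set G)) := Nat.card_congr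
    { toFun := fun a => ⟨(a.1 : G), ⟨a.1.2, (hce _).1 a.2.1⟩,
        by simpa using congrArg Subtype.val a.2.2⟩
      invFun := fun a => ⟨⟨(a : G), a.2.1.1⟩, (hce _).2 a.2.1.2, Subtype.ext (by simpa using a.2.2)⟩
      left_inv := fun a => rfl
      right_inv := fun a => rfl }
  simp only [Equiv.coe_fn_mk, wt]
  rw [hreg, hcard (nrm R) _ hnr, hcard _ _ hce, hcard (cN R (r : G)) _ fun a => by
    simp only [cN, Subgroup.mem_inf, hnr, hce]]

end CfsgLib.InvChar.SecNine
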