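import Cfsg.Agent.Lib.InvChar.SelfCent.Count
import Cfsg.Agent.Lib.InvChar.SelfCent.FamLemmas
import Cfsg.Agent.Lib.TISylow.Structure

/-!
# A self-centralising subgroup of order 7 inverted in the group
-/

set_option autoImplicit false
set_option linter.unusedSectionVars false

namespace CfsgLib.InvChar.SecNine

open CfsgLib.InvChar.SelfCent CfsgLib.Invol
open scoped Classical

universe u

variable {G : Type u} [Group G] [Fintype G]

/-- The 2-part of the order is at most 2⁵. -/
theorem seven_bound [IsSimpleGroup G] (hG : ¬ IsMulCommutative G) {a : ℕ} (ha : 1 ≤ a)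
    (hcard : Nat.card G = 63 * 2 ^ a) {A : Subgroup G} (hA : IsSC A) (hA7 : Nat.card ↥A = 7)
    (he : A.relIndex (Subgroup.normalizer (A : Set G)) = 2) : a ≤ 5 := by
  haveI : Fintype (Cfsg.IrrCharacter G) := Fintype.ofFinite _
  have hfam : fam A = 3 := by rw [fam, he, hA7]
  have he2 : 2 ∣ A.relIndex (Subgroup.normalizer (A : Set G)) := by rw [he]
  have hn1 : 1 < Nat.card ↥A := by rw [hA7]; norm_num
  obtain ⟨F⟩ := hA.exists_fam (by omega)
  rw [he] at F
  have hm : 0 < fam A := by omega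
  set i : Fin (fam A) := ⟨0, hm⟩
  have hcorr0 := F.norm_nontriv hm
  have hnn : 0 ≤ ∑ χ ∈ F.oth.erase (one' G), F.c χ ^ 2 := Finset.sum_nonneg fun χ _ => sq_nonneg _
  have hm3 : ((fam A : ℕ) : ℤ) = 3 := by exact_mod_cast hfam
  rw [hm3] at hcorr0
  have hdeg := F.degree_eq i
  have hsig : F.sig = 3 * F.c0 - F.ε := by rw [Fam.sig, hm3]
  have hnl : ∀ χ : Cfsg.IrrCharacter G, χ ≠ one' G → 2 ≤ dg χ := by
    intro χ hχ
    rcases (show 2 ≤ dg χ ∨ dg χ = 1 by have := dg_pos χ; omega) with h | h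
    · exact h
    · refine absurd (Subtype.ext (CfsgLib.TISylow.linear_eq_one ?_ χ.2 ?_)) hχ
      · by_contra hcon
        push Not at hcon
        exact hG ⟨⟨hcon⟩⟩
      · rw [← dg_cast, h, Int.cast_one]
  have hone : dg (one' G) = 1 := by
    apply Int.cast_injective (α := ℂ)
    rw [dg_cast]
    simp [one']
  have hdgμ : ∀ j, ((dg (F.μ j) : ℤ)) = dg (F.μ i) := fun j => F.dg_μ j i
  set x := dg (F.μ i) with hx
  have hx2 : 2 ≤ x := hnl _ (F.μ_ne i)
  have hc0 : F.c0 = 0 := by
    by_contra h0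
    have hc : F.c0 = F.ε := by
      rcases F.hε with e | e <;> rw [e] at hcorr0 ⊢ <;> push_cast at hcorr0
      · have : F.c0 ≤ 1 := by nlinarith
        have : 0 ≤ F.c0 := by nlinarith
        omega
      · have : -1 ≤ F.c0 := by nlinarith
        have : F.c0 ≤ 0 := by nlinarith
        omega
    have hz : ∀ χ ∈ F.oth, χ ∉ ({one' G} : Finset _) → F.c χ = 0 := by
      intro χ hχ hne
      have hs : ∑ χ ∈ F.oth.erase (one' G), F.c χ ^ 2 = 0 := by
        rcases F.hε with e | e <;> rw [hc, e] at hcorr0 <;> norm_num at hcorr0 <;> exact hcorr0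
      exact pow_eq_zero_iff two_ne_zero |>.1 ((Finset.sum_eq_zero_iff_of_nonneg
        fun χ _ => sq_nonneg _).1 hs χ (Finset.mem_erase.2 ⟨by simpa using hne, hχ⟩))
    have h := F.sum_v_support i dg x hdgμ {one' G}
      (Finset.singleton_subset_iff.2 F.one_mem_oth) hz
    simp only [Int.cast_id] at h
    rw [hdeg, Finset.sum_singleton, F.c_one, hone, hsig, hc] at h
    rcases F.hε with e | e <;> rw [e] at h <;> omega
  rw [hc0] at hcorr0 hsig
  norm_num at hcorr0 hsig
  obtain ⟨Y, hY, hYsq⟩ : ∃ Y ∈ F.oth.erase (one' G), F.c Y ^ 2 ≠ 0 :=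
    Finset.exists_ne_zero_of_sum_ne_zero (by rw [hcorr0]; norm_num)
  obtain ⟨hY1, hYo⟩ := Finset.mem_erase.1 hY
  have hYadd := Finset.add_sum_erase _ (fun χ => F.c χ ^ 2) hY
  rw [hcorr0] at hYadd
  have hYpos : 1 ≤ F.c Y ^ 2 := by
    have := sq_nonneg (F.c Y); omega
  have hrest := Finset.sum_nonneg (s := (F.oth.erase (one' G)).erase Y)
    fun χ _ => sq_nonneg (F.c χ)
  have hYc : F.c Y = 1 ∨ F.c Y = -1 := sq_eq_one_iff.1 (by linarith)
  have hz' : ∀ χ ∈ F.oth, χ ∉ ({one' G, Y} : Finset _) → F.c χ = 0 := by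
    intro χ hχ hne
    simp only [Finset.mem_insert, Finset.mem_singleton, not_or] at hne
    exact pow_eq_zero_iff two_ne_zero |>.1 ((Finset.sum_eq_zero_iff_of_nonneg
      fun χ _ => sq_nonneg _).1 (by linarith) χ
        (Finset.mem_erase.2 ⟨hne.2, Finset.mem_erase.2 ⟨hne.1, hχ⟩⟩))
  have hsub : ({one' G, Y} : Finset _) ⊆ F.oth := by
    simp [Finset.insert_subset_iff, F.one_mem_oth, hYo]
  set y := dg Y with hy
  have hy2 : 2 ≤ y := hnl _ hY1
  have hdeq : 0 = 1 + F.c Y * y - F.ε * x := by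
    have h := F.sum_v_support i dg x hdgμ _ hsub hz'
    simp only [Int.cast_id] at h
    rw [hdeg, Finset.sum_pair hY1.symm, F.c_one, hone, hsig] at h
    linarith
  have hycong : (7 : ℤ) ∣ y - F.c Y := by
    have := F.dg_cong hYo (by rw [hfam, hA7])
    rwa [hA7] at this
  have hydvd : y ∣ (Nat.card G : ℤ) := by
    obtain ⟨χ, n, ρ, hρ, rfl⟩ := Y
    have hd : y = (Module.finrank ℂ (Fin n → ℂ) : ℤ) := by
      apply Int.cast_injective (α := ℂ)
      rw [hy, dg_cast, Int.cast_natCast]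
      exact Representation.char_one ρ
    rw [hd]
    exact Int.natCast_dvd_natCast.2 (CfsgLib.Char.degree_dvd_card ρ)
  have hxdvd : x ∣ (Nat.card G : ℤ) := by
    obtain ⟨n, ρ, hρ, he'⟩ := (F.μ i).2
    have hd : x = (Module.finrank ℂ (Fin n → ℂ) : ℤ) := by
      apply Int.cast_injective (α := ℂ)
      rw [hx, dg_cast, Int.cast_natCast, ← he']
      exact Representation.char_one ρ
    rw [hd]
    exact Int.natCast_dvd_natCast.2 (CfsgLib.Char.degree_dvd_card ρ)
  have hyx : y = 8 ∧ x = 9 ∧ F.c Y = 1 ∧ F.ε = 1 := by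
    rcases hYc with h1 | h1 <;> rcases F.hε with h2 | h2 <;> rw [h1, h2] at hdeq <;>
      rw [h1] at hycong
    all_goals try omega
    · -- x = y + 1, y ≡ 1
      refine ⟨?_, ?_, h1, h2⟩ <;>
      · have hxy : x = y + 1 := by linarith
        have hnat : ∀ d : ℤ, 2 ≤ d → ¬ 2 ∣ d → ¬ (7 : ℤ) ∣ d → d ∣ (Nat.card G : ℤ) → d = 3 ∨ d = 9 := by
          intro d hd ho h7 hdv
          obtain ⟨k, rfl⟩ := Int.eq_ofNat_of_zero_le (show 0 ≤ d by omega)
          rw [hcard] at hdv
          have hk : k ∣ 63 * 2 ^ a := Int.natCast_dvd_natCast.1 hdv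
          have hk2 : Nat.Coprime k 2 :=
            ((Nat.prime_two.coprime_iff_not_dvd).2 fun h => ho (by exact_mod_cast h)).symm
          have hk63 : k ∣ 63 := (hk2.pow_right a).dvd_of_dvd_mul_right hk
          have hk7 : Nat.Coprime k 7 :=
            (((Nat.prime_iff.2 (Nat.prime_iff.1 (by norm_num : Nat.Prime 7))).coprime_iff_not_dvd).2
              fun h => h7 (by exact_mod_cast h)).symm
          have hk9 : k ∣ 9 := hk7.dvd_of_dvd_mul_right (show k ∣ 9 * 7 from hk63)
          have := Nat.le_of_dvd (by norm_num) hk9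
          interval_cases k <;> omega
        by_cases hev : 2 ∣ x
        · have := hnat y hy2 (by omega) (by omega) hydvd
          omega
        · have := hnat x hx2 hev (by omega) hxdvd
          omega
    · -- x = y - 1, y ≡ -1
      exfalso
      have hxy : x = y - 1 := by linarith
      have hnat : ∀ d : ℤ, 2 ≤ d → ¬ 2 ∣ d → ¬ (7 : ℤ) ∣ d → d ∣ (Nat.card G : ℤ) → d = 3 ∨ d = 9 := by
        intro d hd ho h7 hdv
        obtain ⟨k, rfl⟩ := Int.eq_ofNat_of_zero_le (show 0 ≤ d by omega)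
        rw [hcard] at hdv
        have hk : k ∣ 63 * 2 ^ a := Int.natCast_dvd_natCast.1 hdv
        have hk2 : Nat.Coprime k 2 :=
          ((Nat.prime_two.coprime_iff_not_dvd).2 fun h => ho (by exact_mod_cast h)).symm
        have hk63 : k ∣ 63 := (hk2.pow_right a).dvd_of_dvd_mul_right hk
        have hk7 : Nat.Coprime k 7 :=
          (((by norm_num : Nat.Prime 7)).coprime_iff_not_dvd.2 fun h => h7 (by exact_mod_cast h)).symm
        have hk9 : k ∣ 9 := hk7.dvd_of_dvd_mul_right (show k ∣ 9 * 7 from hk63)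
        have := Nat.le_of_dvd (by norm_num) hk9
        interval_cases k <;> omega
      by_cases hev : 2 ∣ x
      · have := hnat y hy2 (by omega) (by omega) hydvd
        omega
      · have := hnat x hx2 hev (by omega) hxdvd
        omega
  obtain ⟨hy8, hx9, hcY, hε⟩ := hyx
  obtain ⟨z, hz, hzd, hz2⟩ := exists_central (G := G)
    (by rw [hcard]; exact dvd_mul_of_dvd_right (dvd_pow_self 2 (by omega)) _)
  obtain ⟨u, hu, huN⟩ := hA.exists_invol he2
  have hzA : ¬ Meets A z := by
    rintro ⟨b, hb, -, hbz⟩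
    have := Subgroup.orderOf_dvd_natCard A hb
    rw [show orderOf b = orderOf z from by obtain ⟨g, hg⟩ := isConj_iff.1 hbz; rw [← hg, ← MulAut.conj_apply, MulEquiv.orderOf_eq], hz, hA7] at this
    norm_num at this
  set t := zv hz Y with ht
  set s := zv hz (F.μ i) with hs
  have hz1 : zv hz (one' G) = 1 := by
    apply Int.cast_injective (α := ℂ)
    rw [zv_cast]
    simp [one']
  have hcol : 0 = 1 + t - s := by
    have h := F.sum_v_support i (zv hz) s (fun j => F.zv_μ hz hzA j i) _ hsub hz'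
    simp only [Int.cast_id] at h
    rw [F.zv_eq hz hzA, Finset.sum_pair hY1.symm, F.c_one, hsig, hcY, hε, hz1] at h
    linarith
  have hp := F.pairs hA hn1 he2 hz hz hu huN i
  have hsum := F.sum_v_support i (fun χ => ((zv hz χ : ℚ) * zv hz χ / (dg χ : ℚ)))
    ((s : ℚ) * s / x) (fun j => by simp only [F.zv_μ hz hzA j i, hdgμ j]; rfl) _ hsub hz'
  rw [Finset.sum_pair hY1.symm, F.c_one, hsig, hcY, hε, hone, hz1] at hsum
  have hp' : (Nat.card G : ℚ) * (∑ χ, (F.v i χ : ℚ) * ((zv hz χ : ℚ) * zv hz χ / (dg χ : ℚ))) =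
      if IsConj z u ∧ IsConj z u then
        (Nat.card ↥(Subgroup.centralizer ({z} : Set G)) : ℚ) *
          Nat.card ↥(Subgroup.centralizer ({z} : Set G)) * Nat.card ↥A else 0 := hp
  rw [hsum, ← ht, ← hy, hy8, hx9, show s = 1 + t by linarith, hcard, hA7] at hp'
  -- the bound on the value
  have hnorm : |t| ≤ 8 := by
    obtain ⟨n, ρ, hρ, he'⟩ := Y.2
    have hle := CfsgLib.Char.norm_char_le (ρ := ρ) z
    have hfr : ((Module.finrank ℂ (Fin n → ℂ) : ℤ) : ℂ) = ((8 : ℤ) : ℂ) := by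
      rw [← hy8, hy, dg_cast, ← he', Int.cast_natCast]
      exact (Representation.char_one ρ).symm
    have hfr' : (Module.finrank ℂ (Fin n → ℂ) : ℤ) = 8 := Int.cast_injective hfr
    rw [he', ← zv_cast hz Y, ← ht, Complex.norm_intCast] at hle
    have hfr'' : ((Module.finrank ℂ (Fin n → ℂ) : ℕ) : ℝ) = 8 := by exact_mod_cast hfr'
    rw [hfr''] at hle
    exact_mod_cast hle
  have hne8 : t ≠ 8 := by
    intro h8
    -- `z` would be in the kernel
    obtain ⟨n, ρ, hρ, he'⟩ := Y.2
    have hker : z ∈ MonoidHom.ker ρ := by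
      rw [CfsgLib.Char.mem_ker_iff_char, he', ← zv_cast hz Y, ← ht, h8, ← hy8, hy, dg_cast]
    rcases (MonoidHom.normal_ker ρ).eq_bot_or_eq_top with h | h
    · rw [h, Subgroup.mem_bot] at hker
      rw [hker, orderOf_one] at hz
      norm_num at hz
    · have hlin : ∀ g, (Y : G → ℂ) g = (Y : G → ℂ) 1 := fun g => by
        rw [← he']
        exact (CfsgLib.Char.mem_ker_iff_char ρ g).1 (by rw [h]; exact Subgroup.mem_top g)
      have := F.zv_eq hz hzA i
      have hu1 := CfsgLib.Char.irr_classInner_ne Y.2 (one' G).2 fun e => hY1 (Subtype.ext e)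
      rw [CfsgLib.Char.classInner_def] at hu1
      simp only [one', map_one, mul_one, hlin, Finset.sum_const, Finset.card_univ, nsmul_eq_mul,
        mul_eq_zero, inv_eq_zero, Nat.cast_eq_zero, Nat.card_pos.ne', false_or] at hu1
      rcases hu1 with hu1 | hu1
      · exact Fintype.card_ne_zero hu1
      · rw [← dg_cast, Int.cast_eq_zero] at hu1
        rw [← hy, hy8] at hu1
        norm_num at hu1
  set c := Nat.card ↥(Subgroup.centralizer ({z} : Set G)) with hc
  have hpow : 2 ^ a ∣ c := by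
    have hc2 : c * (Nat.card G / c) = Nat.card G := Nat.mul_div_cancel' hzd
    have h2 : 2 ^ a ∣ c * (Nat.card G / c) := by rw [hc2, hcard]; exact dvd_mul_left _ _
    exact ((Nat.Prime.coprime_iff_not_dvd Nat.prime_two).2 hz2 |>.pow_left a).dvd_of_dvd_mul_right h2
  have hkey : (2 : ℤ) ^ a * (t - 8) ^ 2 * 63 = 72 * 7 * (c : ℤ) ^ 2 := by
    push_cast at hp'
    split_ifs at hp' with hconj
    · field_simp at hp'
      have : ((2 : ℚ) ^ a * ((t : ℚ) - 8) ^ 2 * 63) = 72 * 7 * (c : ℚ) ^ 2 := by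
        linear_combination hp'
      exact_mod_cast this
    · exfalso
      field_simp at hp'
      have h0 : (((t : ℚ) - 8) ^ 2) = 0 := by
        have hpow0 : (2 : ℚ) ^ a ≠ 0 := pow_ne_zero _ two_ne_zero
        refine mul_left_cancel₀ (mul_ne_zero (show (63 : ℚ) ≠ 0 by norm_num) hpow0) ?_
        linear_combination hp'
      exact hne8 (by exact_mod_cast (sub_eq_zero.1 (pow_eq_zero_iff two_ne_zero |>.1 h0)))
  obtain ⟨k, hk⟩ := hpow
  have hk0 : 1 ≤ k := by
    rcases Nat.eq_zero_or_pos k with h | h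
    · rw [h, mul_zero] at hk
      exact absurd hk Nat.card_pos.ne'
    · exact h
  rw [hk] at hkey
  push_cast at hkey
  have hkey' : (t - 8) ^ 2 = 8 * (2 : ℤ) ^ a * (k : ℤ) ^ 2 :=
    mul_left_cancel₀ (mul_ne_zero (pow_ne_zero a two_ne_zero) (show (63 : ℤ) ≠ 0 by norm_num))
      (by linear_combination hkey)
  have hsq : (t - 8) ^ 2 ≤ 256 := by
    have := abs_le.1 hnorm
    nlinarith
  by_contra hcon
  have h64 : (2 : ℤ) ^ 6 ≤ (2 : ℤ) ^ a := pow_le_pow_right₀ (by norm_num) (by omega)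
  have hk1 : (1 : ℤ) ≤ (k : ℤ) ^ 2 := by
    have : (1 : ℤ) ≤ k := by exact_mod_cast hk0
    nlinarith
  nlinarith

end CfsgLib.InvChar.SecNine
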