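import Cfsg.Agent.Lib.InvChar.SecNine.Numeric
import Cfsg.Agent.Lib.InvChar.SecNine.Seven
import Cfsg.Agent.Lib.InvChar.SecNine.AltSix
import Cfsg.Agent.Lib.ClassK.SmallOrders
import Cfsg.Agent.Lib.ClassK.Order720
import Cfsg.Agent.Lib.Classical.PSLTwoPerm
import Cfsg.Agent.S0497
import Cfsg.Agent.S0997
import Cfsg.Agent.S1001
import Cfsg.Agent.S1011
import Cfsg.Agent.S1020

/-!
# Simple groups of order `9 · 2ᵃ · qᵇ` with three classes of 3-elements
-/

set_option autoImplicit false
set_option linter.unusedSectionVars false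

namespace CfsgLib.InvChar.SecNine

open CfsgLib.Char

universe u

variable {G : Type u} [Group G] [Fintype G]

/-- The reduced data of such a group. -/
theorem reduction [IsSimpleGroup G] (hG : ¬ IsMulCommutative G) (q a b : ℕ) (hq : q.Prime)
    (hq2 : q ≠ 2) (hq3 : q ≠ 3) (hcard : Nat.card G = 9 * 2 ^ a * q ^ b)
    (h3 : 3 ≤ Nat.card {C : ConjClasses G // ∃ g ∈ C.carrier, g ≠ 1 ∧ orderOf g ∣ 9}) :
    5 ≤ q ∧ Nat.card G = 9 * 2 ^ a * q ∧ 1 ≤ a ∧ ∃ χ : Cfsg.IrrCharacter G,
      (∀ n : ℕ, n.Coprime (Nat.card G) → ∀ g, (χ : G → ℂ) (g ^ n) = (χ : G → ℂ) g) ∧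
      ∃ i, (deg χ = 2 ^ i ∧ q = 2 ^ i + 1) ∨ (deg χ = q ∧ q + 1 = 2 ^ i) := by
  classical
  haveI := Fact.mk Nat.prime_three
  have hq5 : 5 ≤ q := by
    have := hq.two_le
    rcases eq_or_ne q 4 with rfl | h4
    · norm_num at hq
    · omega
  set M := 2 ^ a * q ^ b with hMdef
  have hM : Nat.card G = 9 * M := by rw [hcard, mul_assoc]
  have h3M : ¬ 3 ∣ M := by
    intro h
    rcases (Nat.prime_three.dvd_mul).1 h with h | h
    · exact absurd ((Nat.prime_dvd_prime_iff_eq Nat.prime_three Nat.prime_two).1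
        (Nat.prime_three.dvd_of_dvd_pow h)) (by norm_num)
    · exact hq3 ((Nat.prime_dvd_prime_iff_eq Nat.prime_three hq).1
        (Nat.prime_three.dvd_of_dvd_pow h)).symm
  obtain ⟨R⟩ : Nonempty (Sylow 3 G) := Sylow.nonempty
  have hR9 : Nat.card ↥(R : Subgroup G) = 9 := by
    rw [R.card_eq_multiplicity, hM, Nat.factorization_mul (by norm_num)
      (show M ≠ 0 from fun e => h3M (by rw [e]; exact dvd_zero 3)), Finsupp.add_apply,
      Nat.factorization_eq_zero_of_not_dvd h3M, show (9 : ℕ) = 3 ^ 2 by norm_num,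
      Nat.factorization_pow, Finsupp.smul_apply, Nat.Prime.factorization_self Nat.prime_three]
    norm_num
  haveI : IsMulCommutative (R : Subgroup G) :=
    IsPGroup.isMulCommutative_of_card_eq_prime_sq (p := 3) (G := ↥(R : Subgroup G))
      (by rw [hR9]; norm_num)
  haveI : Fintype ↥(R : Subgroup G) := Fintype.ofFinite _
  obtain ⟨N, hE, hMN, hN1⟩ := exists_exp hM h3M
  have D : Data R N M := ⟨hE, hM, h3M, hMN, hN1, hR9⟩
  have hgood : GoodPair G := by
    rcases automiser R hG hM h3M hR9 h3 with h | ⟨x, y, h⟩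
    · exact goodPair_inv hG D h
    · exact goodPair_klein hG D h
  obtain ⟨Y, X, hYr, hXr, hXY, hY1, h3Y, h3X⟩ := hgood
  have hshape := degrees_shape hq hq5 hcard hXY hY1 h3Y h3X
  have hns : ¬ Group.IsSolvable G := fun h =>
    hG ⟨⟨fun x y => IsSimpleGroup.comm_iff_isSolvable.2 h x y⟩⟩
  have hb : b ≠ 0 := fun h => hns (burnside_pq 2 3 Nat.prime_two Nat.prime_three a 2 G
    (by rw [hcard, h, pow_zero, mul_one, mul_comm]; norm_num))
  have ha : 1 ≤ a := by
    rcases Nat.eq_zero_or_pos a with h | h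
    · exact absurd (burnside_pq 3 q Nat.prime_three hq 2 b G
        (by rw [hcard, h]; norm_num)) hns
    · exact h
  have hb1 : ¬ q ^ 2 ∣ Nat.card G := by
    rcases hshape with ⟨i, hY, hX⟩ | ⟨i, hX, hY⟩
    · have hd := CfsgLib.TISylow.card_dvd_factorial (irr_isCharacter Y.2) (deg_cast Y) hYr
        (faithful Y hY1)
      intro h
      refine sq_not_dvd_factorial hq ?_
      rw [show q - 1 = deg Y by omega]
      exact h.trans hd
    · exact sq_not_dvd hq hq5 (irr_isCharacter Y.2) (by rw [deg_cast, hY]) hYr (faithful Y hY1)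
  have hb' : b = 1 := by
    by_contra h
    exact hb1 (hcard ▸ dvd_mul_of_dvd_right (pow_dvd_pow q (by omega)) _)
  subst hb'
  refine ⟨hq5, by rw [hcard, pow_one], ha, ?_⟩
  rcases hshape with ⟨i, hY, hX⟩ | ⟨i, hX, hY⟩
  · exact ⟨Y, hYr, i, Or.inl ⟨hY, by omega⟩⟩
  · exact ⟨Y, hYr, i, Or.inr ⟨hY, by omega⟩⟩

/-- The normaliser of a self-centralising subgroup of prime order is larger. -/
theorem relIndex_ne_one [IsSimpleGroup G] {q : ℕ} [Fact q.Prime]
    (P : Sylow q G) (hC : ∀ x ∈ (P : Subgroup G), x ≠ 1 →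
      Subgroup.centralizer ({x} : Set G) = (P : Subgroup G))
    (hne : (P : Subgroup G) ≠ ⊤) (hne' : (P : Subgroup G) ≠ ⊥) :
    (P : Subgroup G).relIndex (Subgroup.normalizer ((P : Subgroup G) : Set G)) ≠ 1 := by
  intro h
  have hle : Subgroup.normalizer ((P : Subgroup G) : Set G) ≤ (P : Subgroup G) :=
    Subgroup.relIndex_eq_one.1 h
  have hP : Subgroup.normalizer ((P : Subgroup G) : Set G) ≤
      Subgroup.centralizer ((P : Subgroup G) : Set G) := by
    intro n hn
    refine Subgroup.mem_centralizer_iff.2 fun x hx => ?_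
    rcases eq_or_ne x 1 with rfl | hx1
    · simp
    · exact (Subgroup.mem_centralizer_singleton_iff.1 ((hC x hx hx1).symm ▸ hle hn)).symm
  have hcompl := MonoidHom.ker_transferSylow_isComplement' P hP
  rcases (MonoidHom.normal_ker (MonoidHom.transferSylow P hP)).eq_bot_or_eq_top with e | e
  · rw [e, Subgroup.isComplement'_bot_left] at hcompl
    exact hne hcompl
  · rw [e, Subgroup.isComplement'_top_left] at hcompl
    exact hne' hcompl

theorem card_psl_two_odd {F : Type} [Field F] [Fintype F] (hodd : Fintype.card F % 2 = 1) :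
    2 * Nat.card (Matrix.ProjectiveSpecialLinearGroup (Fin 2) F) =
      Fintype.card F * (Fintype.card F ^ 2 - 1) := by
  rw [← CfsgLib.Classical.card_psl_two_mul]
  congr 1
  refine (Nat.gcd_eq_left ?_).symm
  omega

/-- The Sylow subgroup of prime order, its automiser and the count. -/
theorem sylow_data [IsSimpleGroup G] (hG : ¬ IsMulCommutative G) {q a : ℕ} (hq : q.Prime)
    (hq5 : 5 ≤ q) (hcard : Nat.card G = 9 * 2 ^ a * q) :
    ∃ A : Subgroup G, CfsgLib.InvChar.SelfCent.IsSC A ∧ Nat.card ↥A = q ∧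
      A.relIndex (Subgroup.normalizer (A : Set G)) ∣ q - 1 ∧
      A.relIndex (Subgroup.normalizer (A : Set G)) ≠ 1 ∧
      ∃ n, n % q = 1 ∧ Nat.card G = n * (A.relIndex (Subgroup.normalizer (A : Set G)) * q) := by
  haveI := Fact.mk hq
  obtain ⟨P⟩ : Nonempty (Sylow q G) := Sylow.nonempty
  have hcop : ¬ q ∣ 9 * 2 ^ a := by
    intro h
    rcases hq.dvd_mul.1 h with h | h
    · have := hq.dvd_of_dvd_pow (show q ∣ 3 ^ 2 from h)
      have := Nat.le_of_dvd (by norm_num) this
      omega
    · have := Nat.le_of_dvd (by norm_num) (hq.dvd_of_dvd_pow h)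
      omega
  have hPq : Nat.card ↥(P : Subgroup G) = q := by
    rw [P.card_eq_multiplicity, hcard, Nat.factorization_mul
      (Nat.mul_ne_zero (by norm_num) (pow_ne_zero a two_ne_zero)) hq.ne_zero, Finsupp.add_apply,
      Nat.factorization_eq_zero_of_not_dvd hcop, Nat.Prime.factorization_self hq, zero_add, pow_one]
  have hSC : CfsgLib.InvChar.SelfCent.IsSC (P : Subgroup G) := by
    intro x hx hx1
    have hox : orderOf x = q := by
      have h1 := orderOf_dvd_natCard (⟨x, hx⟩ : ↥(P : Subgroup G))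
      rw [hPq, Subgroup.orderOf_mk] at h1
      exact (hq.eq_one_or_self_of_dvd _ h1).resolve_left fun e => hx1 (orderOf_eq_one_iff.1 e)
    rw [Cfsg.Agent.S1001.result q 2 a hq (by rw [hcard]; ring) x hox]
    exact Subgroup.eq_of_le_of_card_ge (Subgroup.zpowers_le.2 hx)
      (by rw [Nat.card_zpowers, hox, hPq])
  refine ⟨P, hSC, hPq, (by have := hSC.relIndex_dvd; rwa [hPq] at this),
    relIndex_ne_one P hSC ?_ ?_, ?_⟩
  · intro e
    have : Nat.card G = q := by rw [← hPq, e, Subgroup.card_top]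
    exact hG ⟨⟨fun x y => by
      haveI := isCyclic_of_prime_card this
      exact (IsCyclic.commGroup (α := G)).mul_comm x y⟩⟩
  · intro e
    rw [e, Subgroup.card_bot] at hPq
    exact hq.one_lt.ne hPq
  · refine ⟨Nat.card (Sylow q G), Eq.trans (card_sylow_modEq_one q G) (Nat.mod_eq_of_lt hq.one_lt), ?_⟩
    have h := hSC.card_normalizer
    rw [hPq] at h
    rw [← h, P.card_eq_index_normalizer]
    exact (Subgroup.index_mul_card _).symm

/-- Simple groups of order `9 · 2ᵃ · qᵇ` with three classes of 3-elements. -/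
theorem main [IsSimpleGroup G] (hG : ¬ IsMulCommutative G) (q a b : ℕ) (hq : q.Prime)
    (hq2 : q ≠ 2) (hq3 : q ≠ 3) (hcard₀ : Nat.card G = 9 * 2 ^ a * q ^ b)
    (h3 : 3 ≤ Nat.card {C : ConjClasses G // ∃ g ∈ C.carrier, g ≠ 1 ∧ orderOf g ∣ 9}) :
    Nat.card G = 504 ∨ Nat.card G = 2448 := by
  obtain ⟨hq5, hcard, ha, χ, hχr, i, hshape⟩ := reduction hG q a b hq hq2 hq3 hcard₀ h3
  have hqodd : q % 2 = 1 := hq.eq_two_or_odd.resolve_left hq2
  by_cases hbig : 11 ≤ q
  · right
    have hnc : ¬ IsCyclic G := fun h => hG ⟨⟨fun x y =>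
      (IsCyclic.commGroup (α := G)).mul_comm x y⟩⟩
    rcases Cfsg.Agent.S0997.result hnc q 2 a 9 hq Nat.prime_two hq2
      (by rw [hcard]; ring) (by omega) with
      ⟨m, F, _, _, hF, hm, ⟨e⟩⟩ | ⟨m, F, _, _, hF, hm, -, ⟨e⟩⟩
    · have h := card_psl_two_odd (F := F) (by rw [hF]; exact hqodd)
      rw [hF, ← Nat.card_congr e.toEquiv, hcard] at h
      have hsq : q ^ 2 - 1 = 18 * 2 ^ a := by
        have : q * (q ^ 2 - 1) = q * (18 * 2 ^ a) := by rw [← h]; ring
        exact Nat.eq_of_mul_eq_mul_left hq.pos this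
      have hq17 : q = 17 := by
        have hm4 : 4 ≤ 2 ^ m := by
          have : 10 ≤ 2 ^ m := by rcases hm with h | h <;> omega
          omega
        have h1 : 1 ≤ m := by
          rcases m with _ | m
          · norm_num at hm4
          · omega
        obtain ⟨m', rfl⟩ : ∃ m', m = m' + 1 := ⟨m - 1, by omega⟩
        have hfac : (q + 1) * (q - 1) = 18 * 2 ^ a := by rw [← Nat.sq_sub_sq, one_pow, hsq]
        have hp2 : 2 ^ (m' + 1) = 2 * 2 ^ m' := by rw [pow_succ]; ring
        have hev : 2 ∣ 2 ^ m' := by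
          rcases m' with _ | k
          · norm_num at hm4
          · exact dvd_pow_self 2 (by omega)
        have cop : ∀ k, 18 * 2 ^ a = 4 * 2 ^ m' * k → k % 2 = 1 → k = 9 := by
          intro k hk hk2
          have h2 : Nat.Coprime k 2 := Nat.coprime_two_right.2 (Nat.odd_iff.2 hk2)
          have hk9 : k ∣ 9 := (h2.pow_right (a + 1)).dvd_of_dvd_mul_right
            (show k ∣ 9 * 2 ^ (a + 1) from ⟨4 * 2 ^ m', by rw [pow_succ]; linarith⟩)
          have h9 : (9 : ℕ) ∣ 4 * 2 ^ m' * k := hk ▸ dvd_mul_of_dvd_left (by norm_num) _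
          have hc : Nat.Coprime 9 (4 * 2 ^ m') := by
            have h94 : Nat.Coprime 9 4 := by norm_num
            exact h94.mul_right ((show Nat.Coprime 9 2 by norm_num).pow_right m')
          exact Nat.dvd_antisymm hk9 (hc.dvd_of_dvd_mul_left h9)
        rcases hm with h' | h'
        · rw [hp2] at h'
          have h2 : 18 * 2 ^ a = 4 * 2 ^ m' * (2 ^ m' + 1) := by
            rw [← hfac, h']; simp only [Nat.add_sub_cancel]; ring
          have := cop _ h2 (by omega)
          omega
        · rw [hp2] at h'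
          have h2 : 18 * 2 ^ a = 4 * 2 ^ m' * (2 ^ m' - 1) := by
            rw [← hfac, h']
            obtain ⟨r, hr⟩ : ∃ r, 2 ^ m' = r + 1 := ⟨2 ^ m' - 1, by omega⟩
            rw [hr, show 2 * (r + 1) - 1 = 2 * r + 1 by omega, Nat.add_sub_cancel,
              Nat.add_sub_cancel]
            ring
          have h9 := cop _ h2 (by omega)
          exfalso
          have h10 : 2 ^ m' = 10 := by omega
          obtain ⟨j, -, hj⟩ := (Nat.dvd_prime_pow Nat.prime_two).1
            (show 5 ∣ 2 ^ m' by rw [h10]; norm_num)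
          rcases j with _ | j
          · norm_num at hj
          · have : 2 ∣ 5 := hj ▸ dvd_pow_self 2 (by omega)
            norm_num at this
      subst hq17
      rw [hcard]
      norm_num at hsq
      omega
    · exfalso
      have h := CfsgLib.Classical.card_psl_two_mul (F := F)
      have hm1 : 1 ≤ m := by
        rcases m with _ | m
        · omega
        · omega
      have hg : Nat.gcd 2 (2 ^ m - 1) = 1 := by
        refine (Nat.prime_two.coprime_iff_not_dvd).2 ?_
        have : 2 ∣ 2 ^ m := dvd_pow_self 2 (by omega)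
        have : 1 ≤ 2 ^ m := Nat.one_le_two_pow
        omega
      rw [hF, hg, one_mul, ← Nat.card_congr e.toEquiv, hcard, ← one_pow 2, Nat.sq_sub_sq,
        ← hm] at h
      have h' : (9 * 2 ^ a) * q = (2 ^ m * (2 ^ m - 1)) * q := by rw [h]; ring
      have h2 := Nat.eq_of_mul_eq_mul_right hq.pos h'
      have hodd : (2 ^ m - 1) % 2 = 1 := by
        have : 2 ∣ 2 ^ m := dvd_pow_self 2 (by omega)
        have : 1 ≤ 2 ^ m := Nat.one_le_two_pow
        omega
      have hk9 : 2 ^ m - 1 ∣ 9 := by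
        refine ((Nat.coprime_two_right.2 (Nat.odd_iff.2 hodd)).pow_right a).dvd_of_dvd_mul_right
          (show 2 ^ m - 1 ∣ 9 * 2 ^ a from h2 ▸ dvd_mul_left _ _)
      have h9 : 9 ∣ 2 ^ m - 1 :=
        ((show Nat.Coprime 9 2 by norm_num).pow_right m).dvd_of_dvd_mul_left
          (show 9 ∣ 2 ^ m * (2 ^ m - 1) from h2 ▸ dvd_mul_right _ _)
      have h10 : 2 ^ m = 10 := by have := Nat.dvd_antisymm hk9 h9; omega
      obtain ⟨j, -, hj⟩ := (Nat.dvd_prime_pow Nat.prime_two).1
        (show 5 ∣ 2 ^ m by rw [h10]; norm_num)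
      rcases j with _ | j
      · norm_num at hj
      · have : 2 ∣ 5 := hj ▸ dvd_pow_self 2 (by omega)
        norm_num at this
  obtain ⟨A, hA, hAq, hed, he1, n, hn, hGn⟩ := sylow_data hG hq hq5 hcard
  set e := A.relIndex (Subgroup.normalizer (A : Set G)) with he
  have hdeg : 1 < deg χ := by
    rcases hshape with ⟨h, h'⟩ | ⟨h, h'⟩ <;> omega
  have hdvd := CfsgLib.TISylow.card_dvd_factorial (irr_isCharacter χ.2) (deg_cast χ) hχr
    (faithful χ hdeg)
  have hqeq : q = 5 ∨ q = 7 := by
    have hq2' := hq.two_le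
    interval_cases q <;> first | omega | norm_num at hq
  have hne : 9 * 2 ^ a = n * e := by
    refine Nat.eq_of_mul_eq_mul_right hq.pos ?_
    rw [← hcard, hGn]; ring
  have hpow2 : ∀ {k : ℕ}, 2 ^ k = 4 → k = 2 := fun {k} h =>
    Nat.pow_right_injective le_rfl (h.trans (by norm_num : (4 : ℕ) = 2 ^ 2))
  rcases hqeq with rfl | rfl
  · exfalso
    have hd4 : deg χ = 4 := by
      rcases hshape with ⟨h, h'⟩ | ⟨h, h'⟩
      · omega
      · have : 2 ^ i = 6 := by omega
        exfalso
        rcases i with _ | _ | _ | i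
        all_goals simp [pow_succ] at this
        omega
    rw [hd4] at hdvd
    have ha7 : a ≤ 7 := by
      by_contra hc
      have h8 : 2 ^ 8 ∣ (2 * 4).factorial :=
        ((pow_dvd_pow 2 (show 8 ≤ a by omega)).trans
          (hcard ▸ dvd_mul_of_dvd_left (dvd_mul_left _ 9) 5)).trans hdvd
      norm_num [Nat.factorial] at h8
    have he' : e = 2 ∨ e = 4 := by
      have : e ≤ 4 := Nat.le_of_dvd (by norm_num) hed
      interval_cases e <;> omega
    have horders : Nat.card G = 360 ∨ Nat.card G = 720 ∨ Nat.card G = 5760 := by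
      rw [hcard]
      rcases he' with e0 | e0 <;> rw [e0] at hne <;> interval_cases a <;> omega
    rcases horders with h360 | h720 | h5760
    · haveI := Fact.mk Nat.prime_three
      obtain ⟨e6⟩ := Cfsg.Agent.S0497.result h360
      obtain ⟨R⟩ : Nonempty (Sylow 3 G) := Sylow.nonempty
      have hR9 : Nat.card ↥(R : Subgroup G) = 9 := by
        rw [R.card_eq_multiplicity, h360, show (360 : ℕ) = 3 ^ 2 * 40 by norm_num,
          Nat.factorization_mul (by norm_num) (by norm_num), Finsupp.add_apply,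
          Nat.factorization_pow, Finsupp.smul_apply, Nat.Prime.factorization_self Nat.prime_three,
          Nat.factorization_eq_zero_of_not_dvd (by norm_num)]
        norm_num
      haveI : IsMulCommutative (R : Subgroup G) :=
        IsPGroup.isMulCommutative_of_card_eq_prime_sq (p := 3) (G := ↥(R : Subgroup G))
          (by rw [hR9]; norm_num)
      obtain ⟨f, hf, hfc⟩ := exists_three R hR9 h3
      have hcl : ∀ j, IsConj aSix (e6 (f j)) ∨ IsConj (aSix * bSix) (e6 (f j)) := fun j =>
        alt_six_classes _ (by simpa using (hf j).2)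
          (by rw [← map_pow, pow_nine R hR9 (hf j).1, map_one])
      have hback : ∀ j k x, IsConj x (e6 (f j)) → IsConj x (e6 (f k)) → j = k := by
        intro j k x h h'
        refine hfc j k ?_
        simpa using MonoidHom.map_isConj e6.symm.toMonoidHom (h.symm.trans h')
      rcases hcl 0 with h0 | h0 <;> rcases hcl 1 with h1 | h1 <;> rcases hcl 2 with h2 | h2 <;>
        first
        | exact absurd (hback 0 1 _ h0 h1) (by decide)
        | exact absurd (hback 0 2 _ h0 h2) (by decide)
        | exact absurd (hback 1 2 _ h1 h2) (by decide)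
    · exact CfsgLib.ClassK.card_ne_720 hG h720
    · -- values of a degree four character avoid `-4`
      exact no_5760 hG h5760 χ hd4 hχr
  · left
    have hd7 : deg χ ≤ 7 := by
      rcases hshape with ⟨h, h'⟩ | ⟨h, h'⟩ <;> omega
    have ha11 : a ≤ 11 := by
      by_contra hc
      have h12 : 2 ^ 12 ∣ (2 * 7).factorial :=
        ((pow_dvd_pow 2 (show 12 ≤ a by omega)).trans
          (hcard ▸ dvd_mul_of_dvd_left (dvd_mul_left _ 9) 7)).trans
          (hdvd.trans (Nat.factorial_dvd_factorial (by omega)))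
      norm_num [Nat.factorial] at h12
    have he' : e = 2 ∨ e = 3 ∨ e = 6 := by
      have : e ≤ 6 := Nat.le_of_dvd (by norm_num) hed
      interval_cases e <;> omega
    have hcases : e = 2 ∧ (a = 3 ∨ a = 6 ∨ a = 9) := by
      rcases he' with e0 | e0 | e0 <;> rw [e0] at hne <;> interval_cases a <;> omega
    obtain ⟨he2, h⟩ := hcases
    have hbound := seven_bound hG ha (by rw [hcard]; ring) hA hAq he2
    rw [hcard]
    rcases h with rfl | rfl | rfl
    · norm_num
    · omega
    · omega

end CfsgLib.InvChar.SecNine
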