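import Cfsg.Agent.Lib.InvChar.SecNine.Pairs
import Cfsg.Agent.Lib.TISylow.Rational
import Cfsg.Agent.Lib.Char.Diag
import Cfsg.Agent.Lib.Char.Burnside

/-!
# The prime q occurs exactly once
-/

set_option autoImplicit false
set_option linter.unusedSectionVars false

namespace CfsgLib.InvChar.SecNine

open scoped ComplexConjugate
open CfsgLib.Char

universe u

variable {G : Type u} [Group G] [Fintype G]

theorem odd_cofactor {q k : ℕ} (hq : 5 ≤ q) (hodd : q % 2 = 1) :
    ∃ t, q ^ (2 * k + 1) = q + 2 * ((q + 1) * (q - 1)) * t ∨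
      q ^ (2 * k + 1) = q + ((q + 1) * (q - 1)) * t := by
  have h := Nat.sub_dvd_pow_sub_pow (q ^ 2) 1 k
  rw [one_pow, ← pow_mul] at h
  obtain ⟨t, ht⟩ := h
  refine ⟨q * t, Or.inr ?_⟩
  have h1 : 1 ≤ q ^ (2 * k) := Nat.one_le_pow _ _ (by omega)
  have h2 : (q + 1) * (q - 1) = q ^ 2 - 1 := by
    rw [← Nat.sq_sub_sq, one_pow]
  rw [h2, pow_succ, show q ^ (2 * k) = 1 + (q ^ 2 - 1) * t by omega]
  ring

/-- A prime power next to a power of two. -/
theorem mersenne_fermat {q i j : ℕ} (hq : q.Prime) (hq5 : 5 ≤ q) (hj : 1 ≤ j)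
    (h : q ^ j = 2 ^ i + 1 ∨ q ^ j + 1 = 2 ^ i) : j = 1 := by
  have hodd : q % 2 = 1 := (hq.eq_two_or_odd.resolve_left (by omega))
  rcases Nat.even_or_odd j with ⟨k, rfl⟩ | ⟨k, rfl⟩
  · exfalso
    have hk : 1 ≤ k := by omega
    have hqk : 5 ≤ q ^ k := le_trans hq5 (Nat.le_self_pow (by omega) q)
    have hsq : q ^ (k + k) = q ^ k * q ^ k := pow_add q k k
    rcases h with h | h
    · have hfac : (q ^ k + 1) * (q ^ k - 1) = 2 ^ i := by
        rw [← Nat.sq_sub_sq, one_pow, pow_two, ← hsq, h]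
        simp
      obtain ⟨u, -, hu⟩ := (Nat.dvd_prime_pow Nat.prime_two).1 (Dvd.intro (q ^ k - 1) hfac)
      obtain ⟨v, -, hv⟩ := (Nat.dvd_prime_pow Nat.prime_two).1 (Dvd.intro_left (q ^ k + 1) hfac)
      have h2 : 2 ≤ u := by
        by_contra hu2
        interval_cases u <;> omega
      have h3 : 2 ≤ v := by
        by_contra hv2
        interval_cases v <;> omega
      obtain ⟨u', rfl⟩ : ∃ u', u = 2 + u' := ⟨u - 2, by omega⟩
      obtain ⟨v', rfl⟩ : ∃ v', v = 2 + v' := ⟨v - 2, by omega⟩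
      rw [pow_add] at hu hv
      omega
    · obtain ⟨t, ht⟩ : ∃ t, q ^ k = 2 * t + 1 := by
        have : q ^ k % 2 = 1 := by simp [Nat.pow_mod, hodd]
        exact ⟨q ^ k / 2, by omega⟩
      have hi : 2 ≤ i := by
        by_contra hi
        interval_cases i <;> nlinarith
      obtain ⟨i', rfl⟩ : ∃ i', i = 2 + i' := ⟨i - 2, by omega⟩
      rw [hsq, ht, pow_add] at h
      ring_nf at h
      omega
  · obtain ⟨t, ht⟩ := odd_cofactor (k := k) hq5 hodd
    obtain ⟨t', ht'⟩ : ∃ t', q ^ (2 * k + 1) = q + (q + 1) * (q - 1) * t' := by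
      rcases ht with h' | h'
      · exact ⟨2 * t, by rw [h']; ring⟩
      · exact ⟨t, h'⟩
    obtain ⟨r, hr⟩ : ∃ r, q = 2 * r + 1 := ⟨q / 2, by omega⟩
    have hr1 : (q - 1) = 2 * r := by omega
    rcases eq_or_ne t' 0 with h0 | h0
    · rw [h0, mul_zero, add_zero] at ht'
      exact Nat.pow_right_injective hq.two_le (ht'.trans (pow_one q).symm)
    exfalso
    rcases h with h | h
    · have hfac : (2 * r) * (2 * ((r + 1) * t') + 1) = 2 ^ i := by
        have e : 2 * r + (q + 1) * (q - 1) * t' = 2 ^ i := by omega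
        rw [hr1, hr] at e
        rw [← e]; ring
      obtain ⟨u, -, hu⟩ := (Nat.dvd_prime_pow Nat.prime_two).1 (Dvd.intro_left _ hfac)
      have hpos : 0 < (r + 1) * t' := Nat.mul_pos (by omega) (Nat.pos_of_ne_zero h0)
      rcases u with _ | u
      · simp at hu; omega
      · rw [pow_succ] at hu; omega
    · have hfac : (2 * r + 2) * (2 * (r * t') + 1) = 2 ^ i := by
        have e : 2 * r + 2 + (q + 1) * (q - 1) * t' = 2 ^ i := by omega
        rw [hr1, hr] at e
        rw [← e]; ring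
      obtain ⟨u, -, hu⟩ := (Nat.dvd_prime_pow Nat.prime_two).1 (Dvd.intro_left _ hfac)
      have hpos : 0 < r * t' := Nat.mul_pos (by omega) (Nat.pos_of_ne_zero h0)
      rcases u with _ | u
      · simp at hu; omega
      · rw [pow_succ] at hu; omega

theorem deg_dvd (χ : Cfsg.IrrCharacter G) : deg χ ∣ Nat.card G := by
  obtain ⟨n, ρ, hρ, he⟩ := χ.2
  have h := deg_cast χ
  rw [← he, Representation.char_one, Nat.cast_inj] at h
  rw [← h]
  exact degree_dvd_card ρ

/-- The two degrees are a prime and a power of two. -/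
theorem degrees_shape {q a b : ℕ} (hq : q.Prime) (hq5 : 5 ≤ q)
    (hcard : Nat.card G = 9 * 2 ^ a * q ^ b) {Y X : Cfsg.IrrCharacter G}
    (hXY : deg X = deg Y + 1) (hY1 : 1 < deg Y) (h3Y : ¬ 3 ∣ deg Y) (h3X : ¬ 3 ∣ deg X) :
    (∃ i, deg Y = 2 ^ i ∧ deg X = q) ∨ (∃ i, deg X = 2 ^ i ∧ deg Y = q) := by
  have key : ∀ χ : Cfsg.IrrCharacter G, ¬ 3 ∣ deg χ → ∃ i j, deg χ = 2 ^ i * q ^ j := by
    intro χ h3
    have hd : deg χ ∣ 9 * (2 ^ a * q ^ b) := by rw [← mul_assoc, ← hcard]; exact deg_dvd χ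
    have hc : Nat.Coprime (deg χ) 9 := by
      have : Nat.Coprime (deg χ) 3 := (Nat.prime_three.coprime_iff_not_dvd.2 h3).symm
      simpa using this.pow_right 2
    obtain ⟨d₁, d₂, h1, h2, he⟩ := Nat.dvd_mul.1 (hc.dvd_of_dvd_mul_left hd)
    obtain ⟨i, -, rfl⟩ := (Nat.dvd_prime_pow Nat.prime_two).1 h1
    obtain ⟨j, -, rfl⟩ := (Nat.dvd_prime_pow hq).1 h2
    exact ⟨i, j, he.symm⟩
  obtain ⟨i, j, hY⟩ := key Y h3Y
  obtain ⟨i', j', hX⟩ := key X h3X
  have hqodd : q % 2 = 1 := hq.eq_two_or_odd.resolve_left (by omega)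
  have hqj : ∀ n, q ^ n % 2 = 1 := fun n => by simp [Nat.pow_mod, hqodd]
  have hzero : ∀ {i j i' j' : ℕ}, 2 ^ i * q ^ j + 1 = 2 ^ i' * q ^ j' ∨
      2 ^ i * q ^ j = 2 ^ i' * q ^ j' + 1 → 1 ≤ j → j' = 0 := by
    intro i j i' j' h hj
    by_contra hj'
    have h1 : q ∣ 2 ^ i * q ^ j := dvd_mul_of_dvd_right (dvd_pow_self q (by omega)) _
    have h2 : q ∣ 2 ^ i' * q ^ j' := dvd_mul_of_dvd_right (dvd_pow_self q hj') _
    rcases h with h | h
    · exact hq.one_lt.ne' (Nat.dvd_one.1 ((Nat.dvd_add_right h1).1 (h ▸ h2)))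
    · exact hq.one_lt.ne' (Nat.dvd_one.1 ((Nat.dvd_add_right h2).1 (h ▸ h1)))
  rcases Nat.eq_zero_or_pos i with hi | hi
  · subst hi
    rw [pow_zero, one_mul] at hY
    have hj : 1 ≤ j := by
      rcases j with _ | j
      · rw [hY, pow_zero] at hY1; omega
      · omega
    have hj' : j' = 0 := hzero (i := 0) (i' := i') (Or.inl (by
      rw [pow_zero, one_mul, ← hY, ← hXY, hX])) hj
    subst hj'
    rw [pow_zero, mul_one] at hX
    have hj1 := mersenne_fermat hq hq5 hj (Or.inr (by rw [← hY, ← hXY, hX]))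
    subst hj1
    exact Or.inr ⟨i', hX, by rw [hY, pow_one]⟩
  · have hi' : i' = 0 := by
      by_contra h
      have h1 : 2 ∣ deg Y := hY ▸ dvd_mul_of_dvd_left (dvd_pow_self 2 (by omega)) _
      have h2 : 2 ∣ deg X := hX ▸ dvd_mul_of_dvd_left (dvd_pow_self 2 h) _
      omega
    subst hi'
    rw [pow_zero, one_mul] at hX
    have hj' : 1 ≤ j' := by
      rcases j' with _ | j'
      · rw [pow_zero] at hX; omega
      · omega
    have hj : j = 0 := hzero (i := 0) (i' := i) (Or.inr (by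
      rw [pow_zero, one_mul, ← hX, hXY, hY])) hj'
    subst hj
    rw [pow_zero, mul_one] at hY
    have hj1 := mersenne_fermat hq hq5 hj' (Or.inl (by rw [← hX, hXY, hY]))
    subst hj1
    exact Or.inl ⟨i, hY, by rw [hX, pow_one]⟩

theorem faithful [IsSimpleGroup G] (χ : Cfsg.IrrCharacter G) (h : 1 < deg χ) :
    ∀ g : G, g ≠ 1 → (χ : G → ℂ) g ≠ (χ : G → ℂ) 1 := by
  obtain ⟨n, ρ, hρ, he⟩ := χ.2
  intro g hg hgv
  rw [← he, ← mem_ker_iff_char] at hgv
  rcases (MonoidHom.normal_ker ρ).eq_bot_or_eq_top with e | e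
  · rw [e, Subgroup.mem_bot] at hgv; exact hg hgv
  · have hconst : ∀ g, (χ : G → ℂ) g = deg χ := fun g => by
      rw [← deg_cast, ← he]
      exact (mem_ker_iff_char ρ g).1 (by rw [e]; exact Subgroup.mem_top g)
    have h1 := irr_classInner_self χ.2
    rw [classInner_def] at h1
    simp only [hconst, Complex.conj_natCast, Finset.sum_const, Finset.card_univ, nsmul_eq_mul,
      ← Nat.card_eq_fintype_card] at h1
    rw [← mul_assoc, inv_mul_cancel₀ (Nat.cast_ne_zero.2 Nat.card_pos.ne'), one_mul] at h1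
    have h2 : deg χ * deg χ = 1 := by exact_mod_cast h1
    nlinarith

/-- A rational faithful character is constant on generators of a cyclic subgroup. -/
theorem rat_pow {χ : G → ℂ} (hrat : ∀ n : ℕ, n.Coprime (Nat.card G) → ∀ g, χ (g ^ n) = χ g)
    (g : G) {k : ℕ} (hk : k.Coprime (orderOf g)) : χ (g ^ k) = χ g := by
  haveI : NeZero (Nat.card G) := ⟨Nat.card_pos.ne'⟩
  obtain ⟨u, hu⟩ := ZMod.unitsMap_surjective (orderOf_dvd_natCard g) (ZMod.unitOfCoprime k hk)
  set m := (u : ZMod (Nat.card G)).val with hm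
  have hm1 : m.Coprime (Nat.card G) := ZMod.val_coe_unit_coprime u
  have hm2 : m ≡ k [MOD orderOf g] := by
    rw [← ZMod.natCast_eq_natCast_iff, hm]
    have h3 := congrArg (Units.val) hu
    rw [ZMod.unitsMap_val, ZMod.cast_eq_val, ZMod.coe_unitOfCoprime] at h3
    exact h3
  rw [← hrat m hm1 g]
  exact congrArg χ (pow_eq_pow_iff_modEq.2 hm2.symm)

theorem sum_cyclic {P : Subgroup G} [Fintype ↥P] (lam : ↥P →* ℂˣ) {w : ↥P} (hw : lam w ≠ 1) :
    ∑ x : ↥P, conj ((lam x : ℂˣ) : ℂ) = 0 := by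
  rw [← map_sum]
  exact (congrArg (starRingEnd ℂ) (sum_hom_units_eq_zero ((Units.coeHom ℂ).comp lam) fun e =>
    hw (Units.ext (DFunLike.congr_fun e w)))).trans (map_zero _)

/-- A rational faithful character of degree `q ≥ 5` prime forces `q² ∤ |G|`. -/
theorem sq_not_dvd {q : ℕ} (hq : q.Prime) (hq5 : 5 ≤ q) {χ : G → ℂ} (hχ : Cfsg.IsCharacter G χ)
    (hd : χ 1 = q) (hrat : ∀ n : ℕ, n.Coprime (Nat.card G) → ∀ g, χ (g ^ n) = χ g)
    (hker : ∀ g, g ≠ 1 → χ g ≠ χ 1) : ¬ q ^ 2 ∣ Nat.card G := by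
  classical
  haveI := Fact.mk hq
  intro hdvd
  -- elements of order `q` have value zero
  have hzero : ∀ g : G, orderOf g = q → χ g = 0 := by
    intro g hg
    set H := Subgroup.zpowers g with hH
    haveI : Fintype H := Fintype.ofFinite _
    have hcardH : Nat.card H = q := by rw [hH, Nat.card_zpowers, hg]
    have hg1 : g ≠ 1 := fun e => hq.one_lt.ne' (by rw [← hg, e, orderOf_one])
    have hconst : ∀ h : H, h ≠ 1 → χ h = χ g := by
      rintro ⟨h, hh⟩ hne
      obtain ⟨k, hk⟩ := (Submonoid.mem_powers_iff _ _).1 (mem_powers_iff_mem_zpowers.2 hh)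
      subst hk
      refine rat_pow hrat g ?_
      rw [hg]
      refine ((hq.coprime_iff_not_dvd).2 fun hd' => hne (Subtype.ext ?_)).symm
      exact orderOf_dvd_iff_pow_eq_one.1 (hg ▸ hd')
    obtain ⟨lam, hlam⟩ := CfsgLib.Char.exists_linear_ne_one (G := H)
      (fun a b => by
        obtain ⟨a, i, rfl⟩ := a
        obtain ⟨b, j, rfl⟩ := b
        exact Subtype.ext (zpow_mul_comm g i j)) (g := ⟨g, Subgroup.mem_zpowers g⟩)
      (fun e => hg1 (congrArg Subtype.val e))
    have hres := CfsgLib.Char.isCharacter_restrict hχ H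
    obtain ⟨m0, hm0⟩ := CfsgLib.Char.classInner_isCharacter_nat hres
      (CfsgLib.Char.irr_isCharacter (CfsgLib.Char.isIrrCharacter_linear (1 : H →* ℂˣ)))
    obtain ⟨m1, hm1⟩ := CfsgLib.Char.classInner_isCharacter_nat hres
      (CfsgLib.Char.irr_isCharacter (CfsgLib.Char.isIrrCharacter_linear lam))
    have hval : ∀ h : H, χ h = χ g + if h = 1 then χ 1 - χ g else 0 := fun h => by
      split_ifs with e
      · subst e; simp
      · rw [add_zero]; exact hconst h e
    have hqC : (q : ℂ) ≠ 0 := Nat.cast_ne_zero.2 hq.ne_zero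
    rw [CfsgLib.Char.classInner_def, hcardH] at hm0 hm1
    simp only [MonoidHom.one_apply, Units.val_one, map_one, mul_one, hval, Finset.sum_add_distrib,
      Finset.sum_const, Finset.sum_ite_eq', Finset.mem_univ, if_true, Finset.card_univ,
      nsmul_eq_mul] at hm0
    simp only [hval, add_mul, ite_mul, zero_mul, Finset.sum_add_distrib, Finset.sum_ite_eq',
      Finset.mem_univ, if_true, ← Finset.mul_sum, sum_cyclic lam hlam, mul_zero, zero_add, map_one,
      Units.val_one, mul_one] at hm1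
    rw [← Nat.card_eq_fintype_card, hcardH, hd] at hm0
    rw [hd] at hm1
    field_simp at hm0 hm1
    have h1 : (m1 : ℂ) ≠ 0 := fun e => hker g hg1 (by
      rw [e, mul_zero] at hm1
      rw [hd]; linear_combination -hm1)
    have key : ((m0 + (q - 1 : ℕ) * m1 : ℕ) : ℂ) = (q : ℕ) := by
      push_cast [Nat.cast_sub (show 1 ≤ q by omega)]
      refine mul_left_cancel₀ hqC ?_
      linear_combination -hm0 - ((q : ℂ) - 1) * hm1
    have key' : m0 + (q - 1) * m1 = q := by exact_mod_cast key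
    have hm1pos : 1 ≤ m1 := Nat.pos_of_ne_zero fun e => h1 (by rw [e, Nat.cast_zero])
    have hm1le : m1 = 1 := by
      by_contra h
      have : (q - 1) * 2 ≤ (q - 1) * m1 := Nat.mul_le_mul le_rfl (by omega)
      omega
    rw [hm1le, Nat.cast_one, mul_one] at hm1
    linear_combination -hm1
  obtain ⟨P, hP⟩ := Sylow.exists_subgroup_card_pow_prime q hdvd
  haveI : Fintype ↥P := Fintype.ofFinite _
  have hPc : ∀ a b : ↥P, a * b = b * a := by
    haveI := IsPGroup.isMulCommutative_of_card_eq_prime_sq (p := q) (G := ↥P) hP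
    exact mul_comm'
  have hres := CfsgLib.Char.isCharacter_restrict hχ P
  have hdiv : ∀ (lam : ↥P →* ℂˣ), ∑ x : ↥P, χ x * conj ((lam x : ℂˣ) : ℂ) ≠ (q : ℂ) := by
    intro lam e
    obtain ⟨m, hm⟩ := CfsgLib.Char.classInner_isCharacter_nat hres
      (CfsgLib.Char.irr_isCharacter (CfsgLib.Char.isIrrCharacter_linear lam))
    rw [CfsgLib.Char.classInner_def, hP, e] at hm
    have hqC : (q : ℂ) ≠ 0 := Nat.cast_ne_zero.2 hq.ne_zero
    push_cast at hm
    field_simp at hm
    have : 1 = q * m := by exact_mod_cast hm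
    exact hq.one_lt.ne' (Nat.eq_one_of_mul_eq_one_right this.symm)
  by_cases hexp : ∀ x : ↥P, x ^ q = 1
  · refine hdiv 1 ?_
    rw [Finset.sum_eq_single (1 : ↥P) (fun x _ hx => ?_) (fun h => absurd (Finset.mem_univ _) h)]
    · simp [hd]
    · rw [hzero x ?_, zero_mul]
      rw [Subgroup.orderOf_coe]
      exact orderOf_eq_prime (hexp x) hx
  push Not at hexp
  obtain ⟨u, hu⟩ := hexp
  have hou : orderOf u = q ^ 2 := by
    obtain ⟨k, hk, hke⟩ := (Nat.dvd_prime_pow hq).1 (hP ▸ orderOf_dvd_natCard u)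
    interval_cases k
    · exact absurd (orderOf_dvd_iff_pow_eq_one.1 (hke ▸ one_dvd q)) hu
    · exact absurd (orderOf_dvd_iff_pow_eq_one.1 (by rw [hke, pow_one])) hu
    · exact hke
  have hgen : ∀ x : ↥P, ∃ k : ℕ, u ^ k = x := by
    intro x
    have e : Subgroup.zpowers u = ⊤ := Subgroup.eq_top_of_card_eq _ (by rw [Nat.card_zpowers, hou, hP])
    exact (Submonoid.mem_powers_iff _ _).1
      (mem_powers_iff_mem_zpowers.2 (e ▸ Subgroup.mem_top x))
  obtain ⟨lam, hlam⟩ := CfsgLib.Char.exists_linear_ne_one hPc (g := u ^ q) hu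
  refine hdiv lam ?_
  set v := χ (u : G) with hv
  have hval : ∀ x : ↥P, χ x = v + (if x ^ q = 1 then -v else 0) + if x = 1 then (q : ℂ) else 0 := by
    intro x
    by_cases hx1 : x = 1
    · subst hx1; simp [hd]
    rw [if_neg hx1, add_zero]
    by_cases hxq : x ^ q = 1
    · rw [if_pos hxq, add_neg_cancel]
      exact hzero x (by rw [Subgroup.orderOf_coe]; exact orderOf_eq_prime hxq hx1)
    · rw [if_neg hxq, add_zero]
      obtain ⟨k, rfl⟩ := hgen x
      rw [SubmonoidClass.coe_pow]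
      refine rat_pow hrat _ ?_
      rw [Subgroup.orderOf_coe, hou]
      refine Nat.Coprime.pow_right 2 ((hq.coprime_iff_not_dvd).2 fun hk => hxq ?_).symm
      obtain ⟨k', rfl⟩ := hk
      rw [← pow_mul, mul_comm q k', mul_assoc, mul_comm, ← pow_two, pow_mul, ← hou,
        pow_orderOf_eq_one, one_pow]
  let W : Subgroup ↥P :=
    { carrier := {x | x ^ q = 1}
      one_mem' := one_pow q
      mul_mem' := fun {a b} ha hb => by
        show (a * b) ^ q = 1
        rw [(show Commute a b from hPc a b).mul_pow, ha, hb, one_mul]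
      inv_mem' := fun {a} ha => by
        show a⁻¹ ^ q = 1
        rw [inv_pow, ha, inv_one] }
  have hW : u ^ q ∈ W := by
    show (u ^ q) ^ q = 1
    rw [← pow_mul, ← pow_two, ← hou, pow_orderOf_eq_one]
  have hWsum : ∑ x : ↥P, (if x ^ q = 1 then conj ((lam x : ℂˣ) : ℂ) else 0) = 0 := by
    haveI : Fintype ↥W := Fintype.ofFinite _
    rw [← Finset.sum_filter,
      Finset.sum_subtype (p := fun x => x ∈ W) _ (fun x => by simp [W])
        (fun x => conj ((lam x : ℂˣ) : ℂ))]
    rw [← map_sum]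
    exact (congrArg (starRingEnd ℂ) (sum_hom_units_eq_zero
      ((Units.coeHom ℂ).comp (lam.comp W.subtype)) fun e =>
        hlam (Units.ext (DFunLike.congr_fun e (⟨u ^ q, hW⟩ : ↥W))))).trans (map_zero _)
  simp only [hval, add_mul, Finset.sum_add_distrib, ← Finset.mul_sum, sum_cyclic lam hlam, ite_mul,
    zero_mul, mul_zero, zero_add, Finset.sum_ite_eq', Finset.mem_univ, if_true, map_one,
    Units.val_one, mul_one]
  have e : ∑ x : ↥P, (if x ^ q = 1 then -v * conj ((lam x : ℂˣ) : ℂ) else 0) = 0 := by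
    have : ∀ x : ↥P, (if x ^ q = 1 then -v * conj ((lam x : ℂˣ) : ℂ) else 0) =
        -v * (if x ^ q = 1 then conj ((lam x : ℂˣ) : ℂ) else 0) := fun x => by
      split_ifs <;> simp
    rw [Finset.sum_congr rfl fun x _ => this x, ← Finset.mul_sum, hWsum, mul_zero]
  rw [e, zero_add]

theorem sq_not_dvd_factorial {q : ℕ} (hq : q.Prime) : ¬ q ^ 2 ∣ (2 * (q - 1)).factorial := by
  rw [hq.pow_dvd_factorial_iff (b := 2) (by
    refine (Nat.log_lt_iff_lt_pow hq.one_lt ?_).2 ?_
    · have := hq.two_le; omega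
    · have := hq.two_le; nlinarith [Nat.sub_le q 1, Nat.mul_le_mul_right q hq.two_le, Nat.sub_add_cancel (show 1 ≤ q by omega)])]
  rw [show Finset.Ico 1 2 = {1} by decide, Finset.sum_singleton, pow_one]
  have h1 : 2 * (q - 1) / q < 2 := by
    rw [Nat.div_lt_iff_lt_mul hq.pos]
    have := hq.two_le; omega
  omega

/-- Excluding order 5760: a degree four rational character avoids the value `-4`. -/
theorem no_5760 [IsSimpleGroup G] (hG : ¬ IsMulCommutative G) (h : Nat.card G = 5760)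
    (χ : Cfsg.IrrCharacter G) (hd : deg χ = 4)
    (hrat : ∀ n : ℕ, n.Coprime (Nat.card G) → ∀ g, (χ : G → ℂ) (g ^ n) = (χ : G → ℂ) g) :
    False := by
  classical
  have hchar := irr_isCharacter χ.2
  have hker := faithful χ (by omega)
  have hval : ∀ g : G, g ≠ 1 → ∃ v : ℤ, (χ : G → ℂ) g = v ∧ -3 ≤ v ∧ v ≤ 3 := by
    intro g hg
    obtain ⟨v, hv⟩ := CfsgLib.TISylow.exists_int_value hchar hrat g
    obtain ⟨n, ρ, hρ, he⟩ := χ.2
    haveI := nontrivial_of_isIrreducible ρ
    have hfr : Module.finrank ℂ (Fin n → ℂ) = 4 := by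
      have := deg_cast χ
      rw [← he, Representation.char_one, hd, Nat.cast_inj] at this
      exact this
    have hle := norm_char_le (ρ := ρ) g
    rw [hfr, he, hv, Complex.norm_intCast] at hle
    have hle' : |v| ≤ 4 := by exact_mod_cast hle
    have hne4 : |v| ≠ 4 := by
      intro h4
      have hn : ‖ρ.character g‖ = (Module.finrank ℂ (Fin n → ℂ) : ℝ) := by
        rw [hfr, he, hv, Complex.norm_intCast]
        exact_mod_cast h4
      obtain ⟨w, hw, -⟩ := eq_smul_id_of_norm_char_eq ρ g hn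
      have hcomm : ∀ k : G, k * g * k⁻¹ = g := by
        intro k
        have hk : ρ (k * g * k⁻¹) = ρ g := by
          rw [map_mul, map_mul, hw, mul_smul_comm, smul_mul_assoc]
          congr 1
          rw [show (LinearMap.id : (Fin n → ℂ) →ₗ[ℂ] (Fin n → ℂ)) = 1 from rfl, mul_one,
            ← map_mul, mul_inv_cancel, map_one]
        by_contra hne
        refine hker (k * g * k⁻¹ * g⁻¹) (fun e => hne (mul_inv_eq_one.1 e)) ?_
        rw [← he, ← mem_ker_iff_char, MonoidHom.mem_ker, map_mul, hk, ← map_mul, mul_inv_cancel,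
          map_one]
      have hz : g ∈ Subgroup.center G := Subgroup.mem_center_iff.2 fun k =>
        mul_inv_eq_iff_eq_mul.1 (hcomm k)
      rcases (inferInstance : (Subgroup.center G).Normal).eq_bot_or_eq_top with e | e
      · rw [e, Subgroup.mem_bot] at hz; exact hg hz
      · exact hG ⟨⟨fun x y => (Subgroup.mem_center_iff.1 (e ▸ Subgroup.mem_top x) y).symm⟩⟩
    obtain ⟨h1, h2⟩ := abs_le.1 hle'
    have h3 : v ≠ 4 := fun e => hne4 (by rw [e]; norm_num)
    have h4 : v ≠ -4 := fun e => hne4 (by rw [e]; norm_num)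
    exact ⟨v, hv, by omega, by omega⟩
  have hg1 : Cfsg.IsGeneralizedCharacter G (fun _ => (1 : ℂ)) :=
    isGeneralized_of_isCharacter isCharacter_one
  have hgenProd : ∀ k : ℕ, Cfsg.IsGeneralizedCharacter G
      (fun g => ∏ i ∈ Finset.range k, ((χ : G → ℂ) g - ((3 : ℂ) - i))) := by
    intro k
    induction k with
    | zero => simpa using hg1
    | succ k ih =>
      have h1 : Cfsg.IsGeneralizedCharacter G (fun g => (χ : G → ℂ) g - ((3 : ℂ) - k)) := by
        have := isGeneralized_sub (isGeneralized_of_isCharacter hchar)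
          (isGeneralized_zsmul hg1 ((3 : ℤ) - k))
        convert this using 1
        funext g
        simp
      convert isGeneralized_mul ih h1 using 1
      funext g
      simp [Finset.prod_range_succ]
  obtain ⟨z, hz⟩ := classInner_isGeneralized_int (hgenProd 7) hg1
  rw [classInner_def] at hz
  simp only [map_one, mul_one] at hz
  rw [Finset.sum_eq_single (1 : G) (fun g _ hg => ?_) (fun h => absurd (Finset.mem_univ _) h),
    deg_cast, hd, h] at hz
  · simp only [Finset.prod_range_succ, Finset.prod_range_zero] at hz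
    norm_num at hz
    have : (5040 : ℤ) = 5760 * z := by
      apply Int.cast_injective (α := ℂ)
      push_cast
      linear_combination (5760 : ℂ) * hz
    omega
  · obtain ⟨v, hv, hv1, hv2⟩ := hval g hg
    refine Finset.prod_eq_zero (i := (3 - v).toNat) (Finset.mem_range.2 (by omega)) ?_
    rw [hv, sub_eq_zero]
    have e : (((3 - v).toNat : ℕ) : ℤ) = 3 - v := by omega
    have e' := congrArg (fun t : ℤ => (t : ℂ)) e
    push_cast at e'
    rw [e']; ring

end CfsgLib.InvChar.SecNine
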