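import Cfsg.Agent.Lib.InvChar.SecNine.Degrees

/-!
# The two automisers both give a good pair
-/

set_option autoImplicit false
set_option linter.unusedSectionVars false
set_option maxHeartbeats 1000000

namespace CfsgLib.InvChar.SecNine

open scoped ComplexConjugate
open CfsgLib.Char

universe u

variable {G : Type u} [Group G] [Fintype G] {N M : ℕ} {R : Sylow 3 G}
variable [IsMulCommutative (R : Subgroup G)] [Fintype ↥(R : Subgroup G)]

theorem phiL_pow (l : ↥(R : Subgroup G) →* ℂˣ) (hl3 : l ^ 3 = 1) {n : ℕ} (hn : ¬ 3 ∣ n)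
    (r : ↥(R : Subgroup G)) : phiL l (r ^ n) = phiL l r := by
  have h1 : l r ^ 3 = 1 := by rw [← MonoidHom.pow_apply, hl3, MonoidHom.one_apply]
  have h2 : n % 3 = 1 ∨ n % 3 = 2 := by omega
  have h3 : l (r ^ n) = l r ^ (n % 3) := by
    rw [map_pow]
    conv_lhs => rw [← Nat.div_add_mod n 3, pow_add, pow_mul, h1, one_pow, one_mul]
  have h4 : l r ^ 2 = (l r)⁻¹ := eq_inv_of_mul_eq_one_left (by rw [← pow_succ]; exact h1)
  simp only [phiL, MonoidHom.inv_apply, h3]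
  rcases h2 with h | h <;> rw [h]
  · rw [pow_one]
  · rw [h4, inv_inv]; ring

/-- Extraction of a single rational pair. -/
theorem goodPair_of [IsSimpleGroup G] (hG : ¬ IsMulCommutative G) [Fintype (Cfsg.IrrCharacter G)]
    (D : Data R N M) {l : ↥(R : Subgroup G) →* ℂˣ} (hl3 : l ^ 3 = 1)
    (hst : Stable R (phiL l)) {Y X : Cfsg.IrrCharacter G} (hYX : Y ≠ X) (hY : Y ≠ one1 G)
    (hX : X ≠ one1 G)
    (hc : coef (D.gen hst (phiL_gen l)) (one1 G) = 1)
    (hYc : coef (D.gen hst (phiL_gen l)) Y = 1 ∨ coef (D.gen hst (phiL_gen l)) Y = -1)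
    (hXc : coef (D.gen hst (phiL_gen l)) X = 1 ∨ coef (D.gen hst (phiL_gen l)) X = -1)
    (h0 : ∀ χ, χ ≠ one1 G → χ ≠ Y → χ ≠ X → coef (D.gen hst (phiL_gen l)) χ = 0)
    (h3Y : ¬ 3 ∣ deg Y) (h3X : ¬ 3 ∣ deg X) : GoodPair G := by
  refine finish_pair hG (D.gen hst (phiL_gen l)) (D.lift_one hst (phiL_one l)) (fun n hn g => ?_)
    hc hYX hY hX hYc hXc h0 h3Y h3X
  refine lift_pow hst D.exp (phiL_pow l hl3 ?_) g
  intro h
  have h9 : 3 ∣ Nat.card G := by rw [D.card]; exact dvd_mul_of_dvd_left (by norm_num) M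
  have := Nat.dvd_gcd h h9
  rw [hn] at this
  norm_num at this

theorem inv_facts {L : Type*} [CommGroup L] (l m : L) :
    (l * m = 1 ↔ m = l⁻¹) ∧ (l * m⁻¹ = 1 ↔ m = l) ∧ (l⁻¹ * m = 1 ↔ m = l) ∧
      (l⁻¹ * m⁻¹ = 1 ↔ m = l⁻¹) ∧ (l⁻¹ = 1 ↔ l = 1) :=
  ⟨mul_eq_one_iff_eq_inv', mul_inv_eq_one.trans eq_comm, inv_mul_eq_one.trans eq_comm,
    by rw [← mul_inv_rev, inv_eq_one, mul_comm]; exact mul_eq_one_iff_eq_inv', inv_eq_one⟩

theorem hom_inv_eq_one (l : ↥(R : Subgroup G) →* ℂˣ) : l⁻¹ = 1 ↔ l = 1 :=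
  (inv_facts l l).2.2.2.2

theorem sum_phiL_mul (hR : Nat.card ↥(R : Subgroup G) = 9) (l m : ↥(R : Subgroup G) →* ℂˣ)
    (hl : l ≠ 1) (hm : m ≠ 1) [Decidable (m = l)] [Decidable (m = l⁻¹)] :
    ∑ r : ↥(R : Subgroup G), phiL l r * phiL m r =
      18 * (2 + (if m = l then 1 else 0) + (if m = l⁻¹ then 1 else 0)) := by
  classical
  have e : ∀ r : ↥(R : Subgroup G), phiL l r * phiL m r =
      4 * (((1 : ↥(R : Subgroup G) →* ℂˣ) r : ℂˣ) : ℂ) - 2 * ((l r : ℂˣ) : ℂ)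
      - 2 * ((l⁻¹ r : ℂˣ) : ℂ) - 2 * ((m r : ℂˣ) : ℂ) - 2 * ((m⁻¹ r : ℂˣ) : ℂ)
      + (((l * m) r : ℂˣ) : ℂ) + (((l * m⁻¹) r : ℂˣ) : ℂ) + (((l⁻¹ * m) r : ℂˣ) : ℂ)
      + (((l⁻¹ * m⁻¹) r : ℂˣ) : ℂ) := fun r => by
    simp only [phiL, MonoidHom.mul_apply, MonoidHom.one_apply, Units.val_mul, Units.val_one]
    ring
  simp only [e, Finset.sum_add_distrib, Finset.sum_sub_distrib, ← Finset.mul_sum, sum_lin' hR]
  obtain ⟨c1, c2, c3, c4, c5⟩ := inv_facts l m
  simp only [c1, c2, c3, c4, hom_inv_eq_one, hl, hm, if_false, if_true]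
  split_ifs <;> ring

/-- Case of the inverting automiser. -/
theorem goodPair_inv [IsSimpleGroup G] (hG : ¬ IsMulCommutative G) (D : Data R N M) (hI : Inv R) :
    GoodPair G := by
  classical
  haveI := Fact.mk Nat.prime_three
  haveI : Fintype (Cfsg.IrrCharacter G) := Fintype.ofFinite _
  have hR := D.nine
  letI : CommGroup ↥(R : Subgroup G) :=
    { (inferInstance : Group ↥(R : Subgroup G)) with mul_comm := mul_comm' }
  have hstab : ∀ l : ↥(R : Subgroup G) →* ℂˣ, Stable R (phiL l) := by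
    intro l r s hrs
    obtain ⟨n, hn, hne⟩ := conj_in_nrm hrs
    rcases hI.pm n hn with h | h
    · rw [show r = s from Subtype.ext ((h r r.2).symm.trans hne)]
    · rw [show s = r⁻¹ from Subtype.ext (hne.symm.trans (h r r.2)), phiL_inv]
  let hgen := fun l : ↥(R : Subgroup G) →* ℂˣ => D.gen (hstab l) (phiL_gen l)
  let c := fun l => coef (hgen l)
  have hW : ∀ r : ↥(R : Subgroup G), ∀ F : ↥(R : Subgroup G) → ℂ, F 1 = 0 →
      W R N (r : G) * F r = 1 / 18 * F r := by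
    intro r F hF
    by_cases h : r = 1
    · rw [h, hF, mul_zero, mul_zero]
    · rw [hI.W_eq' hR D.exp r.2 fun e => h (Subtype.ext e)]
  have hdot : ∀ l m : ↥(R : Subgroup G) →* ℂˣ, l ≠ 1 → m ≠ 1 →
      ∑ χ, c l χ * c m χ = 2 + (if m = l then 1 else 0) + (if m = l⁻¹ then 1 else 0) := by
    intro l m hl hm
    refine dot_eq _ _ ?_
    rw [D.inner (hstab l) (hstab m)]
    simp only [conj_phiL hR]
    rw [Finset.sum_congr rfl fun r _ => hW r (fun r => phiL l r * phiL m r) (by simp [phiL_one]),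
      ← Finset.mul_sum, sum_phiL_mul hR l m hl hm]
    push_cast
    ring
  have hone : ∀ l : ↥(R : Subgroup G) →* ℂˣ, l ≠ 1 → c l (one1 G) = 1 := by
    intro l hl
    refine coef_one _ ?_
    rw [D.inner_one (hstab l), Finset.sum_congr rfl fun r _ => hW r (phiL l) (phiL_one l),
      ← Finset.mul_sum]
    have e : ∑ r : ↥(R : Subgroup G), phiL l r = 18 := by
      simp only [phiL, Finset.sum_sub_distrib, sum_lin' hR, Finset.sum_const, Finset.card_univ,
        ← Nat.card_eq_fintype_card, hR, hom_inv_eq_one, hl, if_false, nsmul_eq_mul]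
      norm_num
    rw [e]; norm_num
  -- a character of order three
  haveI : Finite (↥(R : Subgroup G) →* ℂˣ) := Nat.finite_of_card_ne_zero (by
    rw [natCard_linear]; exact Subgroup.index_ne_zero_of_finite)
  haveI := Fintype.ofFinite (↥(R : Subgroup G) →* ℂˣ)
  have hL9 : Fintype.card (↥(R : Subgroup G) →* ℂˣ) = 9 := by
    rw [← Nat.card_eq_fintype_card, natCard_linear, show commutator ↥(R : Subgroup G) = ⊥ from by
      rw [commutator_def, Subgroup.commutator_eq_bot_iff_le_centralizer]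
      exact fun x _ => Subgroup.mem_centralizer_iff.2 fun y _ => mul_comm' y x,
      Subgroup.index_bot, hR]
  obtain ⟨l, hl, hl3⟩ : ∃ l : ↥(R : Subgroup G) →* ℂˣ, l ≠ 1 ∧ l ^ 3 = 1 := by
    obtain ⟨m, hm⟩ := Fintype.exists_ne_of_one_lt_card (by rw [hL9]; norm_num)
      (1 : ↥(R : Subgroup G) →* ℂˣ)
    by_cases h : m ^ 3 = 1
    · exact ⟨m, hm, h⟩
    · exact ⟨m ^ 3, h, by rw [← pow_mul]; exact pow_nine_lin hR m⟩
  have hli := inv_ne_self hR hl
  obtain ⟨Y, X, hYX, hY, hX, hYc, hXc, h0⟩ := exists_pair (c l) (hone l hl) (by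
    rw [hdot l l hl hl, if_pos rfl, if_neg (Ne.symm hli)]; norm_num)
  set δ := c l Y with hδ
  set ε := c l X with hε
  -- the other six functions
  let S := Finset.univ.filter fun m : ↥(R : Subgroup G) →* ℂˣ => m ≠ 1 ∧ m ≠ l ∧ m ≠ l⁻¹
  have hS : ∀ {m}, m ∈ S ↔ m ≠ 1 ∧ m ≠ l ∧ m ≠ l⁻¹ := fun {m} => by simp [S]
  have hScard : S.card = 6 := by
    have e : S = Finset.univ \ ({1, l, l⁻¹} : Finset (↥(R : Subgroup G) →* ℂˣ)) := by
      ext m; simp [S]
    rw [e, Finset.card_sdiff_of_subset (Finset.subset_univ _), Finset.card_univ, hL9,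
      Finset.card_insert_of_notMem (by simp [hl.symm, Ne.symm ((fun e => hl ((hom_inv_eq_one l).1 e) : l⁻¹ ≠ 1))]),
      Finset.card_pair hli.symm]
  have htype : ∀ m ∈ S, ∃ Z : Cfsg.IrrCharacter G, ∃ ζ : ℤ, (ζ = 1 ∨ ζ = -1) ∧
      Z ≠ one1 G ∧ Z ≠ Y ∧ Z ≠ X ∧ c m Z = ζ ∧
      ((c m Y = δ ∧ c m X = 0) ∨ (c m Y = 0 ∧ c m X = ε)) ∧
      ∀ χ, χ ≠ one1 G → χ ≠ Y → χ ≠ X → χ ≠ Z → c m χ = 0 := by
    intro m hm
    obtain ⟨hm1, hml, hmi⟩ := hS.1 hm
    have h2 := hdot l m hl hm1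
    rw [if_neg hml, if_neg hmi, add_zero, add_zero, sum_three _ hYX hY hX fun χ a b d => by
      rw [show c l χ = 0 from h0 χ a b d, zero_mul], hone l hl, hone m hm1] at h2
    have h3 := hdot m m hm1 hm1
    rw [if_pos rfl, if_neg (Ne.symm (inv_ne_self hR hm1))] at h3
    obtain ⟨P, Q, hPQ, hP, hQ, hPc, hQc, hPQ0⟩ := exists_pair (c m) (hone m hm1) (h3.trans (by norm_num))
    have hval : ∀ χ, χ ≠ one1 G → c m χ = 0 ∨ c m χ = 1 ∨ c m χ = -1 := by
      intro χ hχ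
      by_cases a : χ = P
      · subst a; exact Or.inr hPc
      · by_cases b : χ = Q
        · subst b; exact Or.inr hQc
        · exact Or.inl (hPQ0 χ hχ a b)
    rw [← hδ, ← hε] at h2
    have hor : (c m Y = δ ∧ c m X = 0) ∨ (c m Y = 0 ∧ c m X = ε) := by
      rcases hYc with a | a <;> rcases hXc with b | b <;>
        rcases hval Y hY with d | d | d <;> rcases hval X hX with e | e | e <;>
        rw [a, b, d, e] at h2 <;> first
          | exact Or.inl ⟨d.trans a.symm, e⟩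
          | exact Or.inr ⟨d, e.trans b.symm⟩
          | (exfalso; norm_num at h2)
    rcases hor with h | h
    · have hYPQ : Y = P ∨ Y = Q := by
        by_contra hc'
        push Not at hc'
        have := hPQ0 Y hY hc'.1 hc'.2
        rw [h.1] at this; omega
      rcases hYPQ with e | e
      · refine ⟨Q, c m Q, hQc, hQ, fun x => hPQ (e ▸ x).symm, fun x => ?_, rfl, Or.inl h,
          fun χ a b d g => hPQ0 χ a (e ▸ b) g⟩
        rw [← x] at h; omega
      · refine ⟨P, c m P, hPc, hP, fun x => hPQ (e ▸ x), fun x => ?_, rfl, Or.inl h,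
          fun χ a b d g => hPQ0 χ a g (e ▸ b)⟩
        rw [← x] at h; omega
    · have hXPQ : X = P ∨ X = Q := by
        by_contra hc'
        push Not at hc'
        have := hPQ0 X hX hc'.1 hc'.2
        rw [h.2] at this; omega
      rcases hXPQ with e | e
      · refine ⟨Q, c m Q, hQc, hQ, fun x => ?_, fun x => hPQ (e ▸ x).symm, rfl, Or.inr h,
          fun χ a b d g => hPQ0 χ a (e ▸ d) g⟩
        rw [← x] at h; omega
      · refine ⟨P, c m P, hPc, hP, fun x => ?_, fun x => hPQ (e ▸ x), rfl, Or.inr h,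
          fun χ a b d g => hPQ0 χ a g (e ▸ d)⟩
        rw [← x] at h; omega
  have hdot2 : ∀ m ∈ S, ∀ m' ∈ S, ∀ (Z : Cfsg.IrrCharacter G), Z ≠ one1 G → Z ≠ Y → Z ≠ X →
      (∀ χ, χ ≠ one1 G → χ ≠ Y → χ ≠ X → χ ≠ Z → c m χ = 0) →
      ∑ χ, c m χ * c m' χ = 1 + c m Y * c m' Y + c m X * c m' X + c m Z * c m' Z := by
    intro m hm m' hm' Z hZ1 hZY hZX hz
    rw [← Finset.sum_subset (Finset.subset_univ ({one1 G, Y, X, Z} : Finset _)) fun χ _ hχ => by
      simp only [Finset.mem_insert, Finset.mem_singleton, not_or] at hχ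
      rw [hz χ hχ.1 hχ.2.1 hχ.2.2.1 hχ.2.2.2, zero_mul]]
    rw [Finset.sum_insert (by simp [hY.symm, hX.symm, hZ1.symm]),
      Finset.sum_insert (by simp [hYX, hZY.symm]), Finset.sum_pair hZX.symm,
      hone m (hS.1 hm).1, hone m' (hS.1 hm').1]
    ring
  -- all six agree
  have hsame : (∀ m ∈ S, c m Y = δ ∧ c m X = 0) ∨ (∀ m ∈ S, c m Y = 0 ∧ c m X = ε) := by
    by_contra hmix
    push Not at hmix
    obtain ⟨⟨m₂, hm₂, hm₂'⟩, ⟨m₁, hm₁, hm₁'⟩⟩ := hmix
    obtain ⟨Z₁, ζ₁, hζ₁, hZ₁1, hZ₁Y, hZ₁X, hZ₁c, hor₁, hz₁⟩ := htype m₁ hm₁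
    obtain ⟨Z₂, ζ₂, hζ₂, hZ₂1, hZ₂Y, hZ₂X, hZ₂c, hor₂, hz₂⟩ := htype m₂ hm₂
    have h1 : c m₁ Y = δ ∧ c m₁ X = 0 := hor₁.resolve_right fun h => hm₁' h.1 h.2
    have h2 : c m₂ Y = 0 ∧ c m₂ X = ε := hor₂.resolve_left fun h => hm₂' h.1 h.2
    have key : ∀ (p q : ↥(R : Subgroup G) →* ℂˣ), p ∈ S → q ∈ S → c p Y = δ → c p X = 0 →
        c q Y = 0 → c q X = ε → ∀ (A B : Cfsg.IrrCharacter G), A ≠ one1 G → A ≠ Y → A ≠ X →
        (c p A = 1 ∨ c p A = -1) → B ≠ one1 G → B ≠ Y → B ≠ X →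
        (∀ χ, χ ≠ one1 G → χ ≠ Y → χ ≠ X → χ ≠ A → c p χ = 0) →
        (∀ χ, χ ≠ one1 G → χ ≠ Y → χ ≠ X → χ ≠ B → c q χ = 0) →
        (c q B = 1 ∨ c q B = -1) → A = B ∧ c p A = c q B := by
      intro p q hp hq p1 p2 q1 q2 A B hA1 hAY hAX hA hB1 hBY hBX hpz hqz hB
      have hpq : q ≠ p ∧ q ≠ p⁻¹ := by
        refine ⟨fun e => ?_, fun e => ?_⟩
        · rw [e, p1] at q1
          rcases hYc with a | a <;> omega
        · have hcc : c q Y = c p Y := by
            have hfun : phiL q = phiL p := by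
              funext r; simp [e, phiL]; ring
            show coef (hgen q) Y = coef (hgen p) Y
            apply Int.cast_injective (α := ℂ)
            simp only [coef_cast, hfun]
          rw [q1, p1] at hcc
          rcases hYc with a | a <;> omega
      have h := hdot p q (hS.1 hp).1 (hS.1 hq).1
      rw [hdot2 p hp q hq A hA1 hAY hAX hpz, p1, p2, q1, q2, if_neg hpq.1, if_neg hpq.2] at h
      simp only [mul_zero, zero_mul, add_zero] at h
      by_cases hAB : A = B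
      · subst hAB
        refine ⟨rfl, ?_⟩
        rcases hA with a | a <;> rcases hB with b | b <;> rw [a, b] at h ⊢ <;> norm_num at h
      · rw [hqz A hA1 hAY hAX hAB, mul_zero] at h
        norm_num at h
    obtain ⟨eZ, eζ⟩ := key m₁ m₂ hm₁ hm₂ h1.1 h1.2 h2.1 h2.2 Z₁ Z₂ hZ₁1 hZ₁Y hZ₁X
      (hZ₁c ▸ hζ₁) hZ₂1 hZ₂Y hZ₂X hz₁ hz₂ (hZ₂c ▸ hζ₂)
    obtain ⟨m₃, hm₃, hne⟩ : ∃ m₃ ∈ S, m₃ ∉ ({m₁, m₁⁻¹, m₂, m₂⁻¹} : Finset _) := by
      apply Finset.exists_mem_notMem_of_card_lt_card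
      rw [hScard]
      exact lt_of_le_of_lt Finset.card_le_four (by norm_num)
    simp only [Finset.mem_insert, Finset.mem_singleton, not_or] at hne
    obtain ⟨Z₃, ζ₃, hζ₃, hZ₃1, hZ₃Y, hZ₃X, hZ₃c, hor₃, hz₃⟩ := htype m₃ hm₃
    rcases hor₃ with h3 | h3
    · obtain ⟨eZ', eζ'⟩ := key m₃ m₂ hm₃ hm₂ h3.1 h3.2 h2.1 h2.2 Z₃ Z₂ hZ₃1 hZ₃Y hZ₃X
        (hZ₃c ▸ hζ₃) hZ₂1 hZ₂Y hZ₂X hz₃ hz₂ (hZ₂c ▸ hζ₂)
      have h := hdot m₁ m₃ (hS.1 hm₁).1 (hS.1 hm₃).1
      rw [hdot2 m₁ hm₁ m₃ hm₃ Z₁ hZ₁1 hZ₁Y hZ₁X hz₁, h1.1, h1.2, h3.1, h3.2, if_neg hne.1,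
        if_neg hne.2.1, eZ, ← eZ', eζ', eZ', ← eζ] at h
      rw [← eZ] at h
      rcases hYc with a | a <;> rcases (hZ₁c ▸ hζ₁ : c m₁ Z₁ = 1 ∨ c m₁ Z₁ = -1) with b | b <;>
        rw [a, b] at h <;> norm_num at h
    · obtain ⟨eZ', eζ'⟩ := key m₁ m₃ hm₁ hm₃ h1.1 h1.2 h3.1 h3.2 Z₁ Z₃ hZ₁1 hZ₁Y hZ₁X
        (hZ₁c ▸ hζ₁) hZ₃1 hZ₃Y hZ₃X hz₁ hz₃ (hZ₃c ▸ hζ₃)
      have h := hdot m₂ m₃ (hS.1 hm₂).1 (hS.1 hm₃).1
      rw [hdot2 m₂ hm₂ m₃ hm₃ Z₂ hZ₂1 hZ₂Y hZ₂X hz₂, h2.1, h2.2, h3.1, h3.2, if_neg hne.2.2.1,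
        if_neg hne.2.2.2] at h
      rw [show c m₃ Z₂ = c m₂ Z₂ from by rw [← eζ, eζ', ← eZ', eZ]] at h
      rcases hXc with a | a <;> rcases (hZ₂c ▸ hζ₂ : c m₂ Z₂ = 1 ∨ c m₂ Z₂ = -1) with b | b <;>
        rw [a, b] at h <;> norm_num at h
  -- the singular indicator
  have hsing : ∀ g : G, ∑ m ∈ Finset.univ.erase (1 : ↥(R : Subgroup G) →* ℂˣ),
      lift R N (phiL m) g = 18 * (if g ^ N = 1 then 0 else 1) := by
    intro g
    obtain ⟨r, hr⟩ := exists_rep (R := R) D.exp g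
    simp only [lift, fun m => phi_of_isConj (hstab m) hr]
    by_cases hg : g ^ N = 1
    · rw [if_pos hg, mul_zero]
      have hr1 : r = 1 := Subtype.ext (isConj_one_left.1 (hg ▸ hr))
      exact Finset.sum_eq_zero fun m _ => by rw [hr1, phiL_one]
    · rw [if_neg hg, mul_one]
      have hr1 : r ≠ 1 := fun e => hg (by rw [e] at hr; exact isConj_one_right.1 hr)
      have hall : ∑ m : ↥(R : Subgroup G) →* ℂˣ, ((m r : ℂˣ) : ℂ) = 0 := by
        obtain ⟨m₀, hm₀⟩ := exists_linear_ne_one (G := ↥(R : Subgroup G)) mul_comm' hr1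
        have h := Fintype.sum_equiv (Equiv.mulLeft m₀)
          (fun m : ↥(R : Subgroup G) →* ℂˣ => (((m₀ * m) r : ℂˣ) : ℂ)) (fun m => ((m r : ℂˣ) : ℂ))
          fun m => rfl
        simp only [MonoidHom.mul_apply, Units.val_mul, ← Finset.mul_sum] at h
        by_contra hne
        exact hm₀ (Units.ext (mul_right_cancel₀ hne (h.trans (one_mul _).symm)))
      have hallinv : ∑ m : ↥(R : Subgroup G) →* ℂˣ, ((m⁻¹ r : ℂˣ) : ℂ) = 0 :=
        (Fintype.sum_equiv (Equiv.inv _) _ (fun m : ↥(R : Subgroup G) →* ℂˣ => ((m r : ℂˣ) : ℂ))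
          fun m => rfl).trans hall
      have h := Finset.add_sum_erase Finset.univ (fun m => phiL m r)
        (Finset.mem_univ (1 : ↥(R : Subgroup G) →* ℂˣ))
      have h1' : phiL (1 : ↥(R : Subgroup G) →* ℂˣ) r = 0 := by simp [phiL]; norm_num
      rw [h1', zero_add] at h
      rw [h]
      simp only [phiL, Finset.sum_sub_distrib, hall, hallinv, Finset.sum_const, Finset.card_univ,
        hL9, nsmul_eq_mul]
      norm_num
  have hC : ∀ χ, ((∑ m ∈ Finset.univ.erase (1 : ↥(R : Subgroup G) →* ℂˣ), c m χ : ℤ) : ℂ) =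
      ((2 : ℤ) : ℂ) * 9 *
        Cfsg.classInner (fun g => if g ^ N = 1 then (0 : ℂ) else 1) (χ : G → ℂ) := by
    intro χ
    rw [Int.cast_sum]
    simp only [c, coef_cast]
    rw [← classInner_sum_left, show ((2 : ℤ) : ℂ) * 9 = 18 by norm_num,
      ← classInner_smul_left]
    congr 1
    funext g
    rw [Finset.sum_apply, hsing]
    rfl
  have hsum : ∀ χ, ∑ m ∈ Finset.univ.erase (1 : ↥(R : Subgroup G) →* ℂˣ), c m χ =
      c l χ + c l χ + ∑ m ∈ S, c m χ := by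
    intro χ
    have e : Finset.univ.erase (1 : ↥(R : Subgroup G) →* ℂˣ) = insert l (insert l⁻¹ S) := by
      ext m
      simp only [Finset.mem_erase, Finset.mem_univ, and_true, Finset.mem_insert, hS]
      constructor
      · intro h; by_cases a : m = l <;> by_cases b : m = l⁻¹ <;> tauto
      · rintro (rfl | rfl | h)
        · exact hl
        · exact (fun e => hl ((hom_inv_eq_one l).1 e) : l⁻¹ ≠ 1)
        · exact h.1
    have hci : c l⁻¹ χ = c l χ := by
      have hfun : phiL (l⁻¹) = phiL l := by funext r; simp [phiL]; ring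
      apply Int.cast_injective (α := ℂ)
      simp only [c, coef_cast, hfun]
    rw [e, Finset.sum_insert (by simp [hS, hli.symm]), Finset.sum_insert (by simp [hS]), hci,
      add_assoc]
  have hnd : ∀ χ, ¬ (3 : ℤ) ∣ (c l χ + c l χ + ∑ m ∈ S, c m χ) → ¬ 3 ∣ deg χ := by
    intro χ h hd
    exact h (hsum χ ▸ D.three_dvd χ 2 _ (hC χ) (fun h' => h' hd))
  have hY3 : ¬ 3 ∣ deg Y ∧ ¬ 3 ∣ deg X := by
    have hs : ∀ χ (v : ℤ), (∀ m ∈ S, c m χ = v) → ∑ m ∈ S, c m χ = 6 * v := by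
      intro χ v h
      rw [Finset.sum_congr rfl h, Finset.sum_const, hScard]
      simp
    rcases hsame with h | h
    · refine ⟨hnd Y ?_, hnd X ?_⟩
      · rw [hs Y δ fun m hm => (h m hm).1, ← hδ]
        rcases hYc with a | a <;> rw [a] <;> decide
      · rw [hs X 0 fun m hm => (h m hm).2, ← hε]
        rcases hXc with a | a <;> rw [a] <;> decide
    · refine ⟨hnd Y ?_, hnd X ?_⟩
      · rw [hs Y 0 fun m hm => (h m hm).1, ← hδ]
        rcases hYc with a | a <;> rw [a] <;> decide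
      · rw [hs X ε fun m hm => (h m hm).2, ← hε]
        rcases hXc with a | a <;> rw [a] <;> decide
  exact goodPair_of hG D hl3 (hstab l) hYX hY hX (hone l hl) hYc hXc h0 hY3.1 hY3.2

/-- Case of the four-group automiser. -/
theorem goodPair_klein [IsSimpleGroup G] (hG : ¬ IsMulCommutative G) (D : Data R N M) {a c : G}
    (hK : Klein R a c) : GoodPair G := by
  classical
  haveI := Fact.mk Nat.prime_three
  haveI : Fintype (Cfsg.IrrCharacter G) := Fintype.ofFinite _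
  have hR := D.nine
  letI : CommGroup ↥(R : Subgroup G) :=
    { (inferInstance : Group ↥(R : Subgroup G)) with mul_comm := mul_comm' }
  -- linear characters dual to the coordinates
  have hdual : ∀ {b d : G}, b ∈ (R : Subgroup G) → d ∈ (R : Subgroup G) → d ^ 3 = 1 → b ^ 3 = 1 →
      b ∉ Subgroup.zpowers d → ∃ l : ↥(R : Subgroup G) →* ℂˣ, ∃ w : ℂˣ, w ≠ 1 ∧ w ^ 3 = 1 ∧
        ∀ r : ↥(R : Subgroup G), ∀ i j : ℕ, (r : G) = b ^ i * d ^ j → l r = w ^ i := by
    intro b d hb hd hd3 hb3 hbd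
    set K : Subgroup ↥(R : Subgroup G) := Subgroup.zpowers ⟨d, hd⟩ with hKd
    have hb1 : ((⟨b, hb⟩ : ↥(R : Subgroup G)) : ↥(R : Subgroup G) ⧸ K) ≠ 1 := by
      rw [Ne, QuotientGroup.eq_one_iff]
      intro h
      obtain ⟨k, hk⟩ := Subgroup.mem_zpowers_iff.1 h
      exact hbd (Subgroup.mem_zpowers_iff.2 ⟨k, by simpa using congrArg Subtype.val hk⟩)
    obtain ⟨m, hm⟩ := exists_linear_ne_one (G := ↥(R : Subgroup G) ⧸ K) mul_comm hb1
    refine ⟨m.comp (QuotientGroup.mk' K), m (⟨b, hb⟩ : ↥(R : Subgroup G)), hm, ?_,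
      fun r i j hr => ?_⟩
    · rw [← map_pow, ← QuotientGroup.mk_pow, show (⟨b, hb⟩ : ↥(R : Subgroup G)) ^ 3 = 1 from
        Subtype.ext hb3, QuotientGroup.mk_one, map_one]
    · have er : r = ⟨b, hb⟩ ^ i * ⟨d, hd⟩ ^ j := Subtype.ext (by simpa using hr)
      have hdK : ((⟨d, hd⟩ : ↥(R : Subgroup G)) : ↥(R : Subgroup G) ⧸ K) = 1 :=
        (QuotientGroup.eq_one_iff _).2 (Subgroup.mem_zpowers _)
      rw [MonoidHom.comp_apply, QuotientGroup.mk'_apply, er, QuotientGroup.mk_mul,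
        QuotientGroup.mk_pow, QuotientGroup.mk_pow, hdK, one_pow, mul_one, map_pow]
  have hac : a ∉ Subgroup.zpowers c := by
    intro h
    refine hK.indep ?_
    have e : Subgroup.zpowers a = Subgroup.zpowers c := Subgroup.eq_of_le_of_card_ge
      (Subgroup.zpowers_le.2 h) (by rw [Nat.card_zpowers, Nat.card_zpowers, hK.order_a hR,
        hK.order_c hR])
    exact e ▸ Subgroup.mem_zpowers c
  obtain ⟨lA, wA, hwA, hwA3, hlA⟩ := hdual hK.ha hK.hc hK.c3 hK.a3 hac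
  obtain ⟨lB, wB, hwB, hwB3, hlB⟩ := hdual hK.hc hK.ha hK.a3 hK.c3 hK.indep
  have hthree : ∀ w : ℂˣ, w ≠ 1 → w ^ 3 = 1 → ∀ k : Fin 3,
      (2 : ℂ) - ((w ^ (k : ℕ) : ℂˣ) : ℂ) - (((w ^ (k : ℕ))⁻¹ : ℂˣ) : ℂ) =
        if k = 0 then 0 else 3 := by
    intro w hw hw3 k
    have hs : (w : ℂ) ^ 2 + w + 1 = 0 := by
      have h3' : (w : ℂ) ^ 3 = 1 := by rw [← Units.val_pow_eq_pow_val, hw3, Units.val_one]
      have hne : (w : ℂ) - 1 ≠ 0 := sub_ne_zero.2 fun e => hw (Units.ext e)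
      exact mul_left_cancel₀ hne (by linear_combination h3')
    have e1 : (w⁻¹ : ℂˣ) = w ^ 2 := inv_eq_of_mul_eq_one_right (by rw [← pow_succ']; exact hw3)
    fin_cases k
    · simp; norm_num
    · simp [e1]; linear_combination -hs
    · rw [if_neg (by decide), ← inv_pow, e1, ← pow_mul]
      show (2 : ℂ) - ((w ^ 2 : ℂˣ) : ℂ) - ((w ^ 4 : ℂˣ) : ℂ) = 3
      rw [show w ^ 4 = w by rw [pow_succ, hw3, one_mul], Units.val_pow_eq_pow_val]
      linear_combination -hs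
  have hA : ∀ p : Fin 3 × Fin 3, phiL lA (hK.pt p) = if p.1 = 0 then 0 else 3 := fun p => by
    rw [phiL, MonoidHom.inv_apply, hlA (hK.pt p) p.1 p.2 rfl, hthree wA hwA hwA3]
  have hB : ∀ p : Fin 3 × Fin 3, phiL lB (hK.pt p) = if p.2 = 0 then 0 else 3 := fun p => by
    rw [phiL, MonoidHom.inv_apply, hlB (hK.pt p) p.2 p.1
      (comm_of_mem R (pow_mem hK.ha _) (pow_mem hK.hc _)), hthree wB hwB hwB3]
  have hbij := hK.pt_bijective hR
  have hstab : ∀ F : Fin 3 × Fin 3 → ℂ, (∀ s t : Fin 3, (s = 1 ∨ s = 2) → (t = 1 ∨ t = 2) →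
      ∀ p, F (s * p.1, t * p.2) = F p) → ∀ φ : ↥(R : Subgroup G) → ℂ, (∀ p, φ (hK.pt p) = F p) →
      Stable R φ := by
    intro F hF φ hφ r r' h
    obtain ⟨n, hn, hne⟩ := conj_in_nrm h
    obtain ⟨p, rfl⟩ := hbij.2 r
    obtain ⟨s, t, hs, ht, -, -, hp⟩ := hK.act hR hn
    rw [show r' = hK.pt (s * p.1, t * p.2) from Subtype.ext (hne.symm.trans (hp p)), hφ, hφ,
      hF s t hs ht p]
  have hsign : ∀ s x : Fin 3, (s = 1 ∨ s = 2) → (s * x = 0 ↔ x = 0) := by decide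
  have hstA : Stable R (phiL lA) := hstab _ (fun s t hs _ p => by
    show (if s * p.1 = 0 then (0 : ℂ) else 3) = if p.1 = 0 then 0 else 3
    simp only [hsign s p.1 hs]) _ hA
  have hstB : Stable R (phiL lB) := hstab _ (fun s t _ ht p => by
    show (if t * p.2 = 0 then (0 : ℂ) else 3) = if p.2 = 0 then 0 else 3
    simp only [hsign t p.2 ht]) _ hB
  let φH : ↥(R : Subgroup G) → ℂ := fun r => phiL lA r * phiL lB r
  have hH : ∀ p : Fin 3 × Fin 3, φH (hK.pt p) = if p.1 = 0 ∨ p.2 = 0 then 0 else 9 := fun p => by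
    show phiL lA _ * phiL lB _ = _
    rw [hA, hB]
    split_ifs <;> first | tauto | norm_num
  have hstH : Stable R φH := fun r s h => by simp only [φH, hstA r s h, hstB r s h]
  have gA := D.gen hstA (phiL_gen lA)
  have gB := D.gen hstB (phiL_gen lB)
  have gH := D.gen hstH (isGeneralized_mul (phiL_gen lA) (phiL_gen lB))
  set cA := coef gA with hcA
  set cB := coef gB with hcB
  set cH := coef gH with hcH
  let Wp : Fin 3 × Fin 3 → ℂ := fun p =>
    if p = (0, 0) then 0 else if p.1 = 0 ∨ p.2 = 0 then 1 / 9 else 1 / 36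
  have hW : ∀ (F : ↥(R : Subgroup G) → ℂ), F 1 = 0 →
      ∑ r : ↥(R : Subgroup G), W R N (r : G) * F r = ∑ p, Wp p * F (hK.pt p) := by
    intro F hF
    rw [← Fintype.sum_bijective _ hbij (fun p => W R N (hK.pt p : G) * F (hK.pt p)) _ fun p => rfl]
    refine Finset.sum_congr rfl fun p _ => ?_
    by_cases hp : p = (0, 0)
    · subst hp
      have : hK.pt (0, 0) = 1 := Subtype.ext (by simp [Klein.pt])
      rw [this, hF, mul_zero, mul_zero]
    · rw [hK.W_pt hR D.exp hp]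
      simp only [Wp, if_neg hp]
  have hexp : ∀ F : Fin 3 × Fin 3 → ℂ, ∑ p, Wp p * F p =
      (F (0, 1) + F (0, 2) + F (1, 0) + F (2, 0)) / 9 +
        (F (1, 1) + F (1, 2) + F (2, 1) + F (2, 2)) / 36 := by
    intro F
    simp only [Fintype.sum_prod_type, Fin.sum_univ_three, Wp]
    simp (config := { decide := true }) only [if_true, if_false]
    ring
  have hAA : ∑ χ, cA χ * cA χ = 3 := dot_eq _ _ (by
    rw [D.inner hstA hstA]
    simp only [conj_phiL hR]
    rw [hW _ (by simp [phiL_one]), hexp]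
    simp (config := { decide := true }) only [hA, if_true, if_false]
    norm_num)
  have hBB : ∑ χ, cB χ * cB χ = 3 := dot_eq _ _ (by
    rw [D.inner hstB hstB]
    simp only [conj_phiL hR]
    rw [hW _ (by simp [phiL_one]), hexp]
    simp (config := { decide := true }) only [hB, if_true, if_false]
    norm_num)
  have hAB : ∑ χ, cA χ * cB χ = 1 := dot_eq _ _ (by
    rw [D.inner hstA hstB]
    simp only [conj_phiL hR]
    rw [hW _ (by simp [phiL_one]), hexp]
    simp (config := { decide := true }) only [hA, hB, if_true, if_false]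
    norm_num)
  have hconjH : ∀ r, conj (φH r) = φH r := fun r => by
    simp only [φH, map_mul, conj_phiL hR]
  have hHH : ∑ χ, cH χ * cH χ = 9 := dot_eq _ _ (by
    rw [D.inner hstH hstH]
    simp only [hconjH]
    rw [hW _ (by simp [φH, phiL_one]), hexp]
    simp (config := { decide := true }) only [hH, if_true, if_false]
    norm_num)
  have hAH : ∑ χ, cA χ * cH χ = 3 := dot_eq _ _ (by
    rw [D.inner hstA hstH]
    simp only [hconjH]
    rw [hW _ (by simp [phiL_one]), hexp]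
    simp (config := { decide := true }) only [hA, hH, if_true, if_false]
    norm_num)
  have hBH : ∑ χ, cB χ * cH χ = 3 := dot_eq _ _ (by
    rw [D.inner hstB hstH]
    simp only [hconjH]
    rw [hW _ (by simp [phiL_one]), hexp]
    simp (config := { decide := true }) only [hB, hH, if_true, if_false]
    norm_num)
  have hA1 : cA (one1 G) = 1 := coef_one _ (by
    rw [D.inner_one hstA, hW _ (phiL_one _), hexp]
    simp (config := { decide := true }) only [hA, if_true, if_false]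
    norm_num)
  have hB1 : cB (one1 G) = 1 := coef_one _ (by
    rw [D.inner_one hstB, hW _ (phiL_one _), hexp]
    simp (config := { decide := true }) only [hB, if_true, if_false]
    norm_num)
  have hH1 : cH (one1 G) = 1 := coef_one _ (by
    rw [D.inner_one hstH, hW _ (by simp [φH, phiL_one]), hexp]
    simp (config := { decide := true }) only [hH, if_true, if_false]
    norm_num)
  -- congruence
  have hcong : ∀ χ, ¬ (3 : ℤ) ∣ cH χ → ¬ 3 ∣ deg χ := by
    intro χ hχ hd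
    have e : ((3 * cA χ + 3 * cB χ - cH χ : ℤ) : ℂ) = ((1 : ℤ) : ℂ) * 9 *
        Cfsg.classInner (fun g => if g ^ N = 1 then (0 : ℂ) else 1) (χ : G → ℂ) := by
      push_cast
      simp only [hcA, hcB, hcH, coef_cast]
      rw [one_mul, ← classInner_smul_left, ← classInner_smul_left, ← classInner_smul_left,
        ← classInner_add_left, ← classInner_sub_left]
      congr 1
      funext g
      obtain ⟨r, hr⟩ := exists_rep (R := R) D.exp g
      obtain ⟨p, rfl⟩ := hbij.2 r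
      simp only [Pi.sub_apply, Pi.add_apply, Pi.smul_apply, smul_eq_mul, lift,
        phi_of_isConj hstA hr, phi_of_isConj hstB hr, phi_of_isConj hstH hr, hA, hB, hH]
      by_cases hg : g ^ N = 1
      · have hp0 : p = (0, 0) := hbij.1 (Subtype.ext
          ((isConj_one_left.1 (hg ▸ hr)).trans (by simp [Klein.pt])))
        subst hp0
        simp [hg]
      · rw [if_neg hg, mul_one]
        have hp : p ≠ (0, 0) := fun e => hg (by
          rw [e, show ((hK.pt (0, 0) : ↥(R : Subgroup G)) : G) = 1 by simp [Klein.pt]] at hr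
          exact isConj_one_right.1 hr)
        by_cases h1 : p.1 = 0 <;> by_cases h2 : p.2 = 0
        · exact absurd (Prod.ext h1 h2) hp
        all_goals simp [h1, h2]; norm_num
    have h3 := D.three_dvd χ 1 _ e fun h' => h' hd
    omega
  obtain ⟨Ya, Xa, hYXa, hYa, hXa, hYac, hXac, hA0⟩ := exists_pair cA hA1 hAA
  obtain ⟨Yb, Xb, hYXb, hYb, hXb, hYbc, hXbc, hB0⟩ := exists_pair cB hB1 hBB
  have hA3 : lA ^ 3 = 1 := by
    ext r
    obtain ⟨p, rfl⟩ := hbij.2 r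
    rw [MonoidHom.pow_apply, hlA _ p.1 p.2 rfl, ← pow_mul, mul_comm, pow_mul, hwA3, one_pow,
      MonoidHom.one_apply]
  have hB3 : lB ^ 3 = 1 := by
    ext r
    obtain ⟨p, rfl⟩ := hbij.2 r
    rw [MonoidHom.pow_apply, hlB _ p.2 p.1 (comm_of_mem R (pow_mem hK.ha _) (pow_mem hK.hc _)),
      ← pow_mul, mul_comm, pow_mul, hwB3, one_pow, MonoidHom.one_apply]
  rw [sum_three _ hYXa hYa hXa fun χ x y z => by rw [hA0 χ x y z, zero_mul], hA1, hH1] at hAH
  rw [sum_three _ hYXb hYb hXb fun χ x y z => by rw [hB0 χ x y z, zero_mul], hB1, hH1] at hBH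
  rw [sum_three _ hYXa hYa hXa fun χ x y z => by rw [hA0 χ x y z, zero_mul], hA1, hB1] at hAB
  by_cases hgA : ¬ (3 : ℤ) ∣ cH Ya ∧ ¬ (3 : ℤ) ∣ cH Xa
  · exact goodPair_of hG D hA3 hstA hYXa hYa hXa hA1 hYac hXac hA0
      (hcong _ hgA.1) (hcong _ hgA.2)
  by_cases hgB : ¬ (3 : ℤ) ∣ cH Yb ∧ ¬ (3 : ℤ) ∣ cH Xb
  · exact goodPair_of hG D hB3 hstB hYXb hYb hXb hB1 hYbc hXbc hB0
      (hcong _ hgB.1) (hcong _ hgB.2)
  exfalso
  -- the bound on the norm
  have hsq : ∀ s : Finset (Cfsg.IrrCharacter G), one1 G ∉ s → ∑ χ ∈ s, cH χ * cH χ ≤ 8 := by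
    intro s hs
    have := Finset.sum_le_sum_of_subset_of_nonneg (Finset.subset_univ (insert (one1 G) s))
      (f := fun χ => cH χ * cH χ) fun χ _ _ => mul_self_nonneg _
    rw [Finset.sum_insert hs, hH1, hHH] at this
    linarith
  have hval : ∀ v w : ℤ, v * v + w * w ≤ 8 → ¬ (¬ (3 : ℤ) ∣ v ∧ ¬ (3 : ℤ) ∣ w) →
      ∀ δ ε : ℤ, (δ = 1 ∨ δ = -1) → (ε = 1 ∨ ε = -1) → 1 * 1 + δ * v + ε * w = 3 →
      (v = 2 * δ ∧ w = 0) ∨ (v = 0 ∧ w = 2 * ε) := by
    intro v w hvw hn δ ε hd he h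
    have : -2 ≤ v := by nlinarith
    have : v ≤ 2 := by nlinarith
    have : -2 ≤ w := by nlinarith
    have : w ≤ 2 := by nlinarith
    rcases hd with rfl | rfl <;> rcases he with rfl | rfl <;> omega
  have hgA' := hval _ _ (by
    have := hsq {Ya, Xa} (by simp [hYa.symm, hXa.symm])
    rwa [Finset.sum_pair hYXa] at this) hgA _ _ hYac hXac hAH
  have hgB' := hval _ _ (by
    have := hsq {Yb, Xb} (by simp [hYb.symm, hXb.symm])
    rwa [Finset.sum_pair hYXb] at this) hgB _ _ hYbc hXbc hBH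
  -- no common constituent besides the principal one
  obtain ⟨heA, hya, hxa⟩ := degree_eq hG gA (D.lift_one hstA (phiL_one _)) hA1 hYXa hYa hXa hA0
  obtain ⟨heB, hyb, hxb⟩ := degree_eq hG gB (D.lift_one hstB (phiL_one _)) hB1 hYXb hYb hXb hB0
  have hdisj : cB Ya = 0 ∧ cB Xa = 0 := by
    rw [← hcA] at heA
    by_contra hne
    have hy : cB Ya ≠ 0 ∧ cB Xa ≠ 0 := by
      constructor <;> intro e <;> rw [e, mul_zero] at hAB <;> refine hne ?_ <;>
        rcases hYac with x | x <;> rcases hXac with y | y <;> simp only [x, y] at hAB <;>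
        exact ⟨by omega, by omega⟩
    have hin : ∀ χ, χ ≠ one1 G → cB χ ≠ 0 → χ = Yb ∨ χ = Xb := by
      intro χ h1 h2
      by_contra hc'
      push Not at hc'
      exact h2 (hB0 χ h1 hc'.1 hc'.2)
    have hsum : (1 : ℤ) + cB Ya * deg Ya + cB Xa * deg Xa = 0 := by
      rcases hin Ya hYa hy.1 with e | e <;> rcases hin Xa hXa hy.2 with e' | e'
      · exact absurd (e.trans e'.symm) hYXa
      · rw [e, e']; exact heB
      · rw [e, e']; linarith [heB]
      · exact absurd (e.trans e'.symm) hYXa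
    have hb1 : cB Ya = 1 ∨ cB Ya = -1 := by
      rcases hin Ya hYa hy.1 with e | e <;> rw [e] <;> assumption
    have hb2 : cB Xa = 1 ∨ cB Xa = -1 := by
      rcases hin Xa hXa hy.2 with e | e <;> rw [e] <;> assumption
    rcases hYac with x | x <;> rcases hXac with y | y <;> rcases hb1 with z | z <;>
      rcases hb2 with v | v <;> rw [x, y, z, v] at hAB <;> rw [x, y] at heA <;>
      rw [z, v] at hsum <;> omega
  obtain ⟨A, hA2, hAone, hAB'⟩ : ∃ A, (cH A = 2 ∨ cH A = -2) ∧ A ≠ one1 G ∧ cB A = 0 := by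
    rcases hgA' with h | h
    · exact ⟨Ya, by rcases hYac with x | x <;> omega, hYa, hdisj.1⟩
    · exact ⟨Xa, by rcases hXac with x | x <;> omega, hXa, hdisj.2⟩
  obtain ⟨B, hB2, hBone, hBne⟩ : ∃ B, (cH B = 2 ∨ cH B = -2) ∧ B ≠ one1 G ∧ cB B ≠ 0 := by
    rcases hgB' with h | h
    · exact ⟨Yb, by rcases hYbc with x | x <;> omega, hYb, by rcases hYbc with x | x <;> omega⟩
    · exact ⟨Xb, by rcases hXbc with x | x <;> omega, hXb, by rcases hXbc with x | x <;> omega⟩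
  have hAne : A ≠ B := fun e => hBne (e ▸ hAB')
  have hrest : ∀ χ, χ ≠ one1 G → χ ≠ A → χ ≠ B → cH χ = 0 := by
    intro χ h1 h2 h3
    by_contra hne
    have := hsq {χ, A, B} (by simp [h1.symm, hAone.symm, hBone.symm])
    rw [Finset.sum_insert (by simp [h2, h3]), Finset.sum_pair hAne] at this
    have : 0 < cH χ * cH χ := mul_self_pos.2 hne
    have : cH A * cH A = 4 := by rcases hA2 with x | x <;> rw [x] <;> norm_num
    have : cH B * cH B = 4 := by rcases hB2 with x | x <;> rw [x] <;> norm_num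
    omega
  have he := eq_sum_coef gH (1 : G)
  rw [D.lift_one hstH (by simp [φH, phiL_one]),
    sum_three _ hAne hAone hBone fun χ x y z => by
      rw [← hcH, hrest χ x y z, Int.cast_zero, zero_mul],
    show (one1 G : G → ℂ) 1 = 1 from rfl, deg_cast, deg_cast, ← hcH, hH1] at he
  have he' : (0 : ℤ) = 1 + cH A * deg A + cH B * deg B := by
    apply Int.cast_injective (α := ℂ)
    push_cast at he ⊢
    linear_combination he
  rcases hA2 with x | x <;> rcases hB2 with y | y <;> rw [x, y] at he' <;> omega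

end CfsgLib.InvChar.SecNine
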