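import Cfsg.Agent.Lib.Char.Brauer
import Cfsg.Agent.Lib.Char.Inner
import Cfsg.Agent.Lib.Char.Linear
import Mathlib

/-!
# Sections of a finite group with respect to an abelian Sylow 3-subgroup of exponent dividing 9

The 3-part of `g` is `g ^ N` for a fixed exponent `N`. Class functions depending only on the
3-part, and their inner products as sums over the Sylow subgroup.
-/

set_option autoImplicit false
set_option linter.unusedSectionVars false

namespace CfsgLib.InvChar.SecNine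

open scoped ComplexConjugate

universe u

variable {G : Type u} [Group G] [Finite G]

/-- `g ↦ g ^ N` takes the 3-part. -/
structure Exp (G : Type u) [Group G] (N : ℕ) : Prop where
  pow9 : ∀ g : G, (g ^ N) ^ 9 = 1
  fix : ∀ g : G, g ^ 9 = 1 → g ^ N = g

theorem exists_exp {M : ℕ} (hM : Nat.card G = 9 * M) (h3 : ¬ 3 ∣ M) :
    ∃ N, Exp G N ∧ M ∣ N ∧ N ≡ 1 [MOD 9] := by
  have hc : Nat.Coprime M 9 := by
    have : Nat.Coprime M 3 := (Nat.prime_three.coprime_iff_not_dvd.2 h3).symm
    simpa using this.pow_right 2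
  obtain ⟨N, hN0, hN1⟩ := Nat.chineseRemainder hc 0 1
  have hd : M ∣ N := Nat.modEq_zero_iff_dvd.1 hN0
  refine ⟨N, ⟨fun g => ?_, fun g hg => ?_⟩, hd, hN1⟩
  · rw [← pow_mul]
    refine orderOf_dvd_iff_pow_eq_one.1 ((orderOf_dvd_natCard g).trans ?_)
    rw [hM, mul_comm N]
    exact mul_dvd_mul_left 9 hd
  · conv_rhs => rw [← pow_one g]
    exact pow_eq_pow_iff_modEq.2 (hN1.of_dvd (orderOf_dvd_of_pow_eq_one hg))

variable {N : ℕ}

theorem Exp.subgroup (hE : Exp G N) (H : Subgroup G) : Exp H N :=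
  ⟨fun g => Subtype.ext (by simpa using hE.pow9 g), fun g hg => Subtype.ext
    (by simpa using hE.fix g (by simpa using congrArg Subtype.val hg))⟩

theorem conj_pow' (h g : G) (n : ℕ) : (h * g * h⁻¹) ^ n = h * g ^ n * h⁻¹ := conj_pow

theorem Exp.mul_of_commute (hE : Exp G N) {z y : G} (hz : z ^ 9 = 1) (hy : y ^ N = 1)
    (hzy : Commute z y) : (z * y) ^ N = z := by
  rw [hzy.mul_pow, hE.fix z hz, hy, mul_one]

/-- The number of elements of `S` with trivial 3-part. -/
noncomputable def reg (N : ℕ) (S : Subgroup G) : ℕ := Nat.card {y : G // y ∈ S ∧ y ^ N = 1}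

theorem card_fibre (hE : Exp G N) {z : G} (hz : z ^ 9 = 1) :
    Nat.card {g : G // g ^ N = z} = reg N (Subgroup.centralizer ({z} : Set G)) := by
  have hc : ∀ g : G, g ^ N = z → Commute z g := fun g hg => hg ▸ Commute.pow_self g N
  refine Nat.card_congr
    { toFun := fun g => ⟨z⁻¹ * g.1, Subgroup.mem_centralizer_singleton_iff.2 ?_, ?_⟩
      invFun := fun y => ⟨z * y.1, hE.mul_of_commute hz y.2.2
        (Subgroup.mem_centralizer_singleton_iff.1 y.2.1).symm⟩
      left_inv := fun g => Subtype.ext (by simp)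
      right_inv := fun y => Subtype.ext (by simp) }
  · exact ((hc _ g.2).inv_left.mul_left (Commute.refl _) |> fun _ =>
      (((Commute.refl z).inv_right).mul_right (hc _ g.2)).symm.eq)
  · rw [(hc _ g.2).inv_left.mul_pow, inv_pow, hE.fix z hz, g.2, inv_mul_cancel]

section Sylow

variable (R : Sylow 3 G)

theorem conj_mem_sylow {z : G} (hz : z ^ 9 = 1) : ∃ h : G, h * z * h⁻¹ ∈ (R : Subgroup G) := by
  haveI := Fact.mk Nat.prime_three
  have hp : IsPGroup 3 (Subgroup.zpowers z) := by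
    obtain ⟨j, -, hj⟩ := (Nat.dvd_prime_pow Nat.prime_three).1
      (show orderOf z ∣ 3 ^ 2 from orderOf_dvd_of_pow_eq_one hz)
    exact IsPGroup.of_card (p := 3) (n := j) (by rw [Nat.card_zpowers, hj])
  obtain ⟨Q, hQ⟩ := hp.exists_le_sylow
  obtain ⟨h, hh⟩ := MulAction.exists_smul_eq G Q R
  refine ⟨h, ?_⟩
  have := hQ (Subgroup.mem_zpowers z)
  rw [← hh, Sylow.coe_subgroup_smul, Subgroup.mem_pointwise_smul_iff_inv_smul_mem]
  simpa [MulAut.smul_def, mul_assoc] using this

/-- Normaliser of the Sylow subgroup. -/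
abbrev nrm : Subgroup G := Subgroup.normalizer ((R : Subgroup G) : Set G)

/-- Centraliser of `r` inside the normaliser. -/
abbrev cN (r : G) : Subgroup G := Subgroup.centralizer ({r} : Set G) ⊓ nrm R

/-- The number of `n ∈ N(R)` carrying `r₀` to `r`. -/
theorem card_carrier [IsMulCommutative (R : Subgroup G)] {r₀ r : G} (h₀ : r₀ ∈ (R : Subgroup G))
    (hr : r ∈ (R : Subgroup G)) :
    Nat.card {n : nrm R // (n : G) * r₀ * (n : G)⁻¹ = r} =
      Set.indicator {x | IsConj r₀ x} (fun x => Nat.card (cN R x)) r := by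
  haveI := Fact.mk Nat.prime_three
  by_cases hc : IsConj r₀ r
  · rw [Set.indicator_of_mem (show r ∈ {x | IsConj r₀ x} from hc)]
    obtain ⟨g, hg⟩ := isConj_iff.1 hc
    obtain ⟨n, hn, hne⟩ := R.conj_eq_normalizer_conj_of_mem r₀ g⁻¹ h₀
      (by rw [inv_inv, hg]; exact hr)
    rw [inv_inv, hg] at hne
    have hn1 : n⁻¹ * r₀ * n = r := hne.symm
    refine Nat.card_congr
      { toFun := fun m => ⟨(m.1 : G) * n, ⟨Subgroup.mem_centralizer_singleton_iff.2 ?_,
          mul_mem m.1.2 hn⟩⟩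
        invFun := fun c => ⟨⟨(c : G) * n⁻¹, mul_mem c.2.2 (inv_mem hn)⟩, ?_⟩
        left_inv := fun m => Subtype.ext (Subtype.ext (by simp [mul_assoc]))
        right_inv := fun c => Subtype.ext (by simp [mul_assoc]) }
    · have h2 : (m.1 : G) * r₀ * (m.1 : G)⁻¹ = r := m.2
      have h3 : r₀ = n * r * n⁻¹ := by rw [← hn1]; group
      calc (m.1 : G) * n * r = ((m.1 : G) * (n * r * n⁻¹) * (m.1 : G)⁻¹) * ((m.1 : G) * n) := by
            group
        _ = r * ((m.1 : G) * n) := by rw [← h3, h2]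
    · have h2 : (c : G) * r = r * c := Subgroup.mem_centralizer_singleton_iff.1 c.2.1
      calc (c : G) * n⁻¹ * r₀ * ((c : G) * n⁻¹)⁻¹ = (c : G) * (n⁻¹ * r₀ * n) * (c : G)⁻¹ := by
            group
        _ = r := by rw [hn1, h2, mul_inv_cancel_right]
  · rw [Set.indicator_of_notMem (show r ∉ {x | IsConj r₀ x} from hc)]
    haveI : IsEmpty {n : nrm R // (n : G) * r₀ * (n : G)⁻¹ = r} :=
      ⟨fun n => hc (isConj_iff.2 ⟨n.1, n.2⟩)⟩
    exact Nat.card_of_isEmpty

/-- Orbit counting: the conjugates of `r₀` in `R`, weighted by their stabilisers. -/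
theorem sum_carrier [IsMulCommutative (R : Subgroup G)] [Fintype ↥(R : Subgroup G)] {r₀ : G}
    (h₀ : r₀ ∈ (R : Subgroup G)) :
    ∑ r : ↥(R : Subgroup G), Set.indicator {x | IsConj r₀ x} (fun x => Nat.card (cN R x)) (r : G) =
      Nat.card (nrm R) := by
  have key : ∀ n : nrm R, (n : G) * r₀ * (n : G)⁻¹ ∈ (R : Subgroup G) := fun n =>
    (Subgroup.mem_normalizer_iff.1 n.2 r₀).1 h₀
  let f : nrm R → ↥(R : Subgroup G) := fun n => ⟨_, key n⟩
  rw [← Nat.card_congr (Equiv.sigmaFiberEquiv f), Nat.card_sigma]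
  refine Finset.sum_congr rfl fun r _ => ?_
  rw [← card_carrier R h₀ r.2]
  exact Nat.card_congr (Equiv.subtypeEquivRight fun n => by simp [f, Subtype.ext_iff])

/-- The weight of `r ∈ R`. -/
noncomputable def wt (r : G) : ℂ :=
  (Nat.card (cN R r) : ℂ) / (Nat.card (nrm R) * Nat.card (Subgroup.centralizer ({r} : Set G)))

theorem card_transporter {r z : G} (h : IsConj r z) :
    Nat.card {g : G // g * r * g⁻¹ = z} = Nat.card (Subgroup.centralizer ({r} : Set G)) := by
  obtain ⟨g₀, hg₀⟩ := isConj_iff.1 h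
  refine Nat.card_congr
    { toFun := fun g => ⟨g₀⁻¹ * g.1, Subgroup.mem_centralizer_singleton_iff.2 ?_⟩
      invFun := fun c => ⟨g₀ * c, ?_⟩
      left_inv := fun g => Subtype.ext (by simp)
      right_inv := fun c => Subtype.ext (by simp) }
  · calc g₀⁻¹ * g.1 * r = g₀⁻¹ * (g.1 * r * g.1⁻¹) * g.1 := by group
      _ = g₀⁻¹ * (g₀ * r * g₀⁻¹) * g.1 := by rw [g.2, hg₀]
      _ = r * (g₀⁻¹ * g.1) := by group
  · have h2 : (c : G) * r = r * c := Subgroup.mem_centralizer_singleton_iff.1 c.2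
    calc g₀ * c * r * (g₀ * (c : G))⁻¹ = g₀ * ((c : G) * r) * (c : G)⁻¹ * g₀⁻¹ := by group
      _ = z := by rw [h2]; rw [← hg₀]; group

/-- A sum over the elements of exponent 9 as a sum over `R`. -/
theorem sum_pow9 [Fintype G] [Fintype ↥(R : Subgroup G)] [IsMulCommutative (R : Subgroup G)]
    (hR : ∀ r ∈ (R : Subgroup G), r ^ 9 = 1) (F : G → ℂ) (hF : ∀ g h, F (h * g * h⁻¹) = F g) :
    ∑ z : G, Set.indicator {z | z ^ 9 = 1} F z =
      (Nat.card G : ℂ) * ∑ r : ↥(R : Subgroup G), wt R (r : G) * F r := by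
  classical
  have hT : ∀ z : G, ∑ r : ↥(R : Subgroup G),
      (Nat.card {g : G // g * (r : G) * g⁻¹ = z} : ℂ) * wt R (r : G) =
        Set.indicator {z | z ^ 9 = 1} (fun _ => (1 : ℂ)) z := by
    intro z
    by_cases hz : z ^ 9 = 1
    · rw [Set.indicator_of_mem (show z ∈ {z | z ^ 9 = 1} from hz)]
      obtain ⟨h, hh⟩ := conj_mem_sylow R hz
      have hn : (Nat.card (nrm R) : ℂ) ≠ 0 := Nat.cast_ne_zero.2 Nat.card_pos.ne'
      have hsum := congrArg (fun k : ℕ => (k : ℂ) / Nat.card (nrm R)) (sum_carrier R hh)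
      simp only [Nat.cast_sum, Finset.sum_div, div_self hn] at hsum
      refine Eq.trans (Finset.sum_congr rfl fun r _ => ?_) hsum
      by_cases hc : IsConj (r : G) z
      · rw [card_transporter hc, Set.indicator_of_mem (show (r : G) ∈ {x | IsConj _ x} from
          ((isConj_iff.2 ⟨h, rfl⟩ : IsConj z _).symm.trans hc.symm)), wt]
        have hC : (Nat.card (Subgroup.centralizer ({(r : G)} : Set G)) : ℂ) ≠ 0 :=
          Nat.cast_ne_zero.2 Nat.card_pos.ne'
        field_simp
      · haveI : IsEmpty {g : G // g * (r : G) * g⁻¹ = z} :=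
          ⟨fun g => hc (isConj_iff.2 ⟨g.1, g.2⟩)⟩
        rw [Nat.card_of_isEmpty, Nat.cast_zero, zero_mul, Set.indicator_of_notMem
          (show (r : G) ∉ {x | IsConj _ x} from fun hx =>
            hc (((isConj_iff.2 ⟨h, rfl⟩ : IsConj z _).trans hx).symm)), Nat.cast_zero, zero_div]
    · rw [Set.indicator_of_notMem (show z ∉ {z | z ^ 9 = 1} from hz)]
      refine Finset.sum_eq_zero fun r _ => ?_
      haveI : IsEmpty {g : G // g * (r : G) * g⁻¹ = z} :=
        ⟨fun g => hz (by rw [← g.2, conj_pow', hR _ r.2, mul_one, mul_inv_cancel])⟩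
      rw [Nat.card_of_isEmpty, Nat.cast_zero, zero_mul]
  have hz1 : ∀ z : G, Set.indicator {z | z ^ 9 = 1} F z =
      ∑ r : ↥(R : Subgroup G), (Nat.card {g : G // g * (r : G) * g⁻¹ = z} : ℂ) * wt R (r : G) * F z := by
    intro z
    rw [← Finset.sum_mul, hT z, Set.indicator_apply, Set.indicator_apply]
    split_ifs <;> simp
  simp only [hz1]
  rw [Finset.sum_comm, Finset.mul_sum]
  refine Finset.sum_congr rfl fun r _ => ?_
  have hfib : ∀ z : G, (Nat.card {g : G // g * (r : G) * g⁻¹ = z} : ℂ) * wt R (r : G) * F z =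
      (Nat.card {g : G // g * (r : G) * g⁻¹ = z} : ℂ) * (wt R (r : G) * F r) := by
    intro z
    rcases isEmpty_or_nonempty {g : G // g * (r : G) * g⁻¹ = z} with he | ⟨⟨g, hg⟩⟩
    · simp [Nat.card_of_isEmpty]
    · rw [← hg, hF]; ring
  simp only [hfib]
  rw [← Finset.sum_mul, ← Nat.cast_sum, ← Nat.card_sigma,
    Nat.card_congr (Equiv.sigmaFiberEquiv fun g : G => g * (r : G) * g⁻¹)]

/-- Functions of the 3-part: the sum over the group. -/
theorem sum_comp [Fintype G] [Fintype ↥(R : Subgroup G)] [IsMulCommutative (R : Subgroup G)]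
    (hE : Exp G N) (hR : ∀ r ∈ (R : Subgroup G), r ^ 9 = 1) (F : G → ℂ)
    (hF : ∀ g h, F (h * g * h⁻¹) = F g) :
    ∑ g : G, F (g ^ N) = (Nat.card G : ℂ) * ∑ r : ↥(R : Subgroup G),
      wt R (r : G) * ((reg N (Subgroup.centralizer ({(r : G)} : Set G)) : ℂ) * F r) := by
  classical
  have hregconj : ∀ g h : G, reg N (Subgroup.centralizer ({h * g * h⁻¹} : Set G)) =
      reg N (Subgroup.centralizer ({g} : Set G)) := by
    intro g h
    refine Nat.card_congr (Equiv.subtypeEquiv (MulAut.conj h⁻¹).toEquiv fun y => ?_)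
    simp only [MulEquiv.toEquiv_eq_coe, MulEquiv.coe_toEquiv, MulAut.conj_apply,
      Subgroup.mem_centralizer_singleton_iff, inv_inv, conj_pow']
    refine and_congr ?_ ?_
    · constructor
      · intro e
        calc h⁻¹ * y * h * g = h⁻¹ * (y * (h * g * h⁻¹)) * h := by group
          _ = h⁻¹ * ((h * g * h⁻¹) * y) * h := by rw [e]
          _ = g * (h⁻¹ * y * h) := by group
      · intro e
        calc y * (h * g * h⁻¹) = h * (h⁻¹ * y * h * g) * h⁻¹ := by group
          _ = h * (g * (h⁻¹ * y * h)) * h⁻¹ := by rw [e]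
          _ = h * g * h⁻¹ * y := by group
    · have hp := conj_pow' h⁻¹ y N
      rw [inv_inv] at hp
      rw [hp]
      constructor
      · intro e
        rw [e]; group
      · intro e
        calc y ^ N = h * (h⁻¹ * y ^ N * h) * h⁻¹ := by group
          _ = 1 := by rw [e]; group
  rw [← sum_pow9 R hR (fun z => (reg N (Subgroup.centralizer ({z} : Set G)) : ℂ) * F z)
    (fun g h => by simp only [hregconj, hF])]
  rw [← Finset.sum_fiberwise' Finset.univ (fun g : G => g ^ N) F]
  refine Finset.sum_congr rfl fun z _ => ?_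
  rw [Finset.sum_const, nsmul_eq_mul, Set.indicator_apply]
  split_ifs with hz
  · rw [← card_fibre hE hz, Nat.card_eq_fintype_card, Fintype.card_subtype]
  · rw [Finset.card_eq_zero.2 (Finset.filter_eq_empty_iff.2 fun g _ e => hz ?_), Nat.cast_zero,
      zero_mul]
    exact e ▸ hE.pow9 g

end Sylow

end CfsgLib.InvChar.SecNine
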