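import Cfsg.Agent.Lib.InvChar.SecNine.Auto

/-!
# The weights of the sections
-/

set_option autoImplicit false
set_option linter.unusedSectionVars false

namespace CfsgLib.InvChar.SecNine

open scoped ComplexConjugate

universe u

variable {G : Type u} [Group G] [Finite G] {N : ℕ} (R : Sylow 3 G)

/-- The centraliser of the Sylow subgroup. -/
abbrev cR : Subgroup G := Subgroup.centralizer ((R : Subgroup G) : Set G)

/-- The weight of `r` in inner products. -/
noncomputable def W (N : ℕ) (r : G) : ℂ :=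
  wt R r * (reg N (Subgroup.centralizer ({r} : Set G)) : ℂ)

/-- Trivial 3-part density of a subgroup. -/
noncomputable def rho (N : ℕ) (H : Subgroup G) : ℂ := (reg N H : ℂ) / (Nat.card ↥H : ℂ)

theorem W_eq (r : G) : W R N r =
    (Nat.card (cN R r) : ℂ) / (Nat.card (nrm R) : ℂ) *
      rho N (Subgroup.centralizer ({r} : Set G)) := by
  rw [W, wt, rho]
  field_simp

theorem cR_le_nrm : cR R ≤ nrm R := by
  intro n hn
  rw [Subgroup.mem_normalizer_iff]
  intro r
  have hn' := Subgroup.mem_centralizer_iff.1 hn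
  constructor
  · intro hr
    rw [show n * r * n⁻¹ = r by rw [← hn' r hr]; group]
    exact hr
  · intro hr
    have e := hn' _ hr
    have : r = n * r * n⁻¹ := by
      calc r = n⁻¹ * ((n * r * n⁻¹) * n) := by group
        _ = n * r * n⁻¹ := by rw [e]; group
    exact this ▸ hr

theorem cR_le_cN {r : G} (hr : r ∈ (R : Subgroup G)) : cR R ≤ cN R r := fun _ hn =>
  ⟨Subgroup.mem_centralizer_singleton_iff.2 (Subgroup.mem_centralizer_iff.1 hn r hr).symm,
    cR_le_nrm R hn⟩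

theorem mem_cN_iff {r n : G} : n ∈ cN R r ↔ n * r * n⁻¹ = r ∧ n ∈ nrm R := by
  rw [Subgroup.mem_inf, Subgroup.mem_centralizer_singleton_iff, mul_inv_eq_iff_eq_mul]

variable [IsMulCommutative (R : Subgroup G)]

theorem le_cR : (R : Subgroup G) ≤ cR R := fun _ hx =>
  Subgroup.mem_centralizer_iff.2 fun _ hy => comm_of_mem R hy hx

variable [Fintype ↥(R : Subgroup G)]

theorem rho_cR (hE : Exp G N) (hR : Nat.card ↥(R : Subgroup G) = 9) :
    rho N (cR R) = 1 / 9 := by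
  have h := reg_sum R hE (fun r hr => pow_nine R hR hr) (cR R) (le_cR R)
  have hc : (Nat.card ↥(cR R) : ℂ) ≠ 0 := Nat.cast_ne_zero.2 Nat.card_pos.ne'
  have e : ∀ r : ↥(R : Subgroup G), (Nat.card ↥(cR R ⊓ cN R (r : G)) : ℂ) /
      ((Nat.card ↥(cR R ⊓ nrm R) : ℂ) *
        Nat.card ↥(cR R ⊓ Subgroup.centralizer ({(r : G)} : Set G))) *
      reg N (cR R ⊓ Subgroup.centralizer ({(r : G)} : Set G)) = rho N (cR R) := by
    intro r
    rw [inf_eq_left.2 (cR_le_cN R r.2), inf_eq_left.2 (cR_le_nrm R),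
      inf_eq_left.2 ((cR_le_cN R r.2).trans inf_le_left), rho]
    field_simp
  simp only [e, Finset.sum_const, Finset.card_univ, ← Nat.card_eq_fintype_card, hR, nsmul_eq_mul]
    at h
  linear_combination (1 / 9 : ℂ) * h

theorem cent_inf_eq (hR : Nat.card ↥(R : Subgroup G) = 9) {x r : G} (hx : x ∈ (R : Subgroup G))
    (hx1 : x ≠ 1) (hr : r ∈ (R : Subgroup G)) (hrx : r ∉ Subgroup.zpowers x) :
    Subgroup.centralizer ({x} : Set G) ⊓ Subgroup.centralizer ({r} : Set G) = cR R := by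
  refine le_antisymm (fun y hy => ?_) fun y hy => ⟨((cR_le_cN R hx) hy).1, ((cR_le_cN R hr) hy).1⟩
  rw [Subgroup.mem_inf, Subgroup.mem_centralizer_singleton_iff,
    Subgroup.mem_centralizer_singleton_iff] at hy
  set S := (R : Subgroup G) ⊓ Subgroup.centralizer ({y} : Set G) with hS
  have hxS : x ∈ S := ⟨hx, Subgroup.mem_centralizer_singleton_iff.2 hy.1.symm⟩
  have hrS : r ∈ S := ⟨hr, Subgroup.mem_centralizer_singleton_iff.2 hy.2.symm⟩
  have hlt : Nat.card ↥(Subgroup.zpowers x) < Nat.card ↥S := by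
    by_contra hle
    push Not at hle
    exact hrx (Subgroup.eq_of_le_of_card_ge (Subgroup.zpowers_le.2 hxS) hle ▸ hrS)
  have hdvd : Nat.card ↥S ∣ 3 ^ 2 := by
    rw [show (3 : ℕ) ^ 2 = 9 from rfl, ← hR]
    exact Subgroup.card_dvd_of_le inf_le_left
  have hzd : Nat.card ↥(Subgroup.zpowers x) ∣ Nat.card ↥S :=
    Subgroup.card_dvd_of_le (Subgroup.zpowers_le.2 hxS)
  have hz1 : Nat.card ↥(Subgroup.zpowers x) ≠ 1 := by
    rw [Nat.card_zpowers]
    exact fun e => hx1 (orderOf_eq_one_iff.1 e)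
  have hcard : Nat.card ↥S = 9 := by
    obtain ⟨j, hj, hje⟩ := (Nat.dvd_prime_pow Nat.prime_three).1 hdvd
    obtain ⟨k, hk, hke⟩ := (Nat.dvd_prime_pow Nat.prime_three).1 (hzd.trans hdvd)
    rw [hje, hke] at hlt
    rw [hke] at hz1
    interval_cases j <;> interval_cases k <;> simp_all
  have hSR : S = (R : Subgroup G) :=
    Subgroup.eq_of_le_of_card_ge inf_le_left (by rw [hR, hcard])
  exact Subgroup.mem_centralizer_iff.2 fun t ht => by
    have ht' : t ∈ S := hSR.symm ▸ ht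
    exact Subgroup.mem_centralizer_singleton_iff.1 ht'.2

/-- The density of trivial 3-parts in the centraliser of an element of `R`. -/
theorem rho_cent (hE : Exp G N) (hR : Nat.card ↥(R : Subgroup G) = 9) {x : G}
    (hx : x ∈ (R : Subgroup G)) (hx1 : x ≠ 1) {k : ℕ} (hk : Nat.card (cN R x) = k * Nat.card (cR R))
    (hkr : ∀ r ∈ (R : Subgroup G), r ∉ Subgroup.zpowers x → cN R r ⊓
      Subgroup.centralizer ({x} : Set G) = cR R) :
    (orderOf x : ℂ) * rho N (Subgroup.centralizer ({x} : Set G)) +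
      ((9 : ℂ) - orderOf x) / (9 * k) = 1 := by
  classical
  have h := reg_sum R hE (fun r hr => pow_nine R hR hr) (Subgroup.centralizer ({x} : Set G))
    ((le_cR R).trans ((cR_le_cN R hx).trans inf_le_left))
  have hc : (Nat.card ↥(cR R) : ℂ) ≠ 0 := Nat.cast_ne_zero.2 Nat.card_pos.ne'
  have hn : Subgroup.centralizer ({x} : Set G) ⊓ nrm R = cN R x := rfl
  have hcx : (Nat.card ↥(cN R x) : ℂ) ≠ 0 := Nat.cast_ne_zero.2 Nat.card_pos.ne'
  have e : ∀ r : ↥(R : Subgroup G),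
      (Nat.card ↥(Subgroup.centralizer ({x} : Set G) ⊓ cN R (r : G)) : ℂ) /
        ((Nat.card ↥(Subgroup.centralizer ({x} : Set G) ⊓ nrm R) : ℂ) *
          Nat.card ↥(Subgroup.centralizer ({x} : Set G) ⊓
            Subgroup.centralizer ({(r : G)} : Set G))) *
        reg N (Subgroup.centralizer ({x} : Set G) ⊓ Subgroup.centralizer ({(r : G)} : Set G)) =
      if (r : G) ∈ Subgroup.zpowers x then rho N (Subgroup.centralizer ({x} : Set G))
        else 1 / (9 * (k : ℂ)) := by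
    intro r
    rw [hn]
    split_ifs with hmem
    · have hle : Subgroup.centralizer ({x} : Set G) ≤
          Subgroup.centralizer ({(r : G)} : Set G) := by
        intro y hy
        rw [Subgroup.mem_centralizer_singleton_iff] at hy ⊢
        obtain ⟨i, hi⟩ := Subgroup.mem_zpowers_iff.1 hmem
        rw [← hi]
        exact ((show Commute y x from hy).zpow_right i).eq
      rw [inf_eq_left.2 hle, show Subgroup.centralizer ({x} : Set G) ⊓ cN R (r : G) = cN R x by
        rw [← inf_assoc, inf_eq_left.2 hle], rho]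
      field_simp
    · rw [inf_comm (Subgroup.centralizer ({x} : Set G)) (cN R (r : G)), hkr _ r.2 hmem,
        cent_inf_eq R hR hx hx1 r.2 hmem, hk, Nat.cast_mul]
      have hk0 : (k : ℂ) ≠ 0 := by
        intro e
        rw [hk, Nat.cast_mul, e, zero_mul] at hcx
        exact hcx rfl
      have := rho_cR R hE hR
      rw [rho, div_eq_div_iff hc (by norm_num)] at this
      field_simp
      linear_combination this
  simp only [e] at h
  rw [Finset.sum_ite, Finset.sum_const, Finset.sum_const] at h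
  have hcard : (Finset.univ.filter fun r : ↥(R : Subgroup G) =>
      (r : G) ∈ Subgroup.zpowers x).card = orderOf x := by
    rw [← Fintype.card_subtype, ← Nat.card_eq_fintype_card, ← Nat.card_zpowers]
    exact Nat.card_congr
      { toFun := fun r => ⟨(r.1 : G), r.2⟩
        invFun := fun y => ⟨⟨(y : G), Subgroup.zpowers_le.2 hx y.2⟩, y.2⟩
        left_inv := fun r => rfl
        right_inv := fun y => rfl }
  have hcard' : (Finset.univ.filter fun r : ↥(R : Subgroup G) =>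
      ¬ (r : G) ∈ Subgroup.zpowers x).card = 9 - orderOf x := by
    rw [Finset.filter_not, Finset.card_sdiff_of_subset (Finset.filter_subset _ _), hcard,
      Finset.card_univ, ← Nat.card_eq_fintype_card, hR]
  have hle : orderOf x ≤ 9 := Nat.le_of_dvd (by norm_num)
    (orderOf_dvd_of_pow_eq_one (pow_nine R hR hx))
  rw [hcard, hcard', nsmul_eq_mul, nsmul_eq_mul, Nat.cast_sub hle] at h
  push_cast at h
  rw [← h]
  ring

theorem orb_mem_iff {x : G} (hx : x ∈ (R : Subgroup G)) {s : ↥(R : Subgroup G)} :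
    s ∈ orb R x ↔ ∃ n ∈ nrm R, n * x * n⁻¹ = (s : G) := by
  classical
  haveI := Fact.mk Nat.prime_three
  simp only [orb, Finset.mem_filter, Finset.mem_univ, true_and]
  constructor
  · intro h
    obtain ⟨g, hg⟩ := isConj_iff.1 h
    obtain ⟨n, hn, hne⟩ := R.conj_eq_normalizer_conj_of_mem x g⁻¹ hx
      (by rw [inv_inv, hg]; exact s.2)
    rw [inv_inv, hg] at hne
    exact ⟨n⁻¹, inv_mem hn, by rw [inv_inv, hne]⟩
  · rintro ⟨n, -, hn⟩
    exact isConj_iff.2 ⟨n, hn⟩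

theorem eq_one_of_inv_eq {x : G} (h9 : x ^ 9 = 1) (h : x⁻¹ = x) : x = 1 := by
  refine eq_one_of_pow9 h9 (k := 2) (by norm_num) ?_
  rw [pow_two]
  nth_rewrite 1 [← h]
  exact inv_mul_cancel x

section Inv

variable {R} (hI : Inv R) (hR : Nat.card ↥(R : Subgroup G) = 9)
include hI hR

theorem Inv.cN_eq {x : G} (hx : x ∈ (R : Subgroup G)) (hx1 : x ≠ 1) : cN R x = cR R := by
  refine le_antisymm (fun n hn => ?_) (cR_le_cN R hx)
  obtain ⟨hfix, hnN⟩ := (mem_cN_iff R).1 hn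
  rcases hI.pm n hnN with h | h
  · exact Subgroup.mem_centralizer_iff.2 fun r hr =>
      ((mul_inv_eq_iff_eq_mul).1 (h r hr)).symm
  · exact absurd (eq_one_of_inv_eq (pow_nine R hR hx) ((h x hx).symm.trans hfix)) hx1

theorem Inv.W_eq' (hE : Exp G N) {x : G} (hx : x ∈ (R : Subgroup G)) (hx1 : x ≠ 1) :
    W R N x = 1 / 18 := by
  classical
  have ho : (orb R x).card = 2 := by
    obtain ⟨n, hn, hne⟩ := hI.inv
    have : orb R x = {⟨x, hx⟩, ⟨x⁻¹, inv_mem hx⟩} := by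
      ext s
      rw [orb_mem_iff R hx, Finset.mem_insert, Finset.mem_singleton, Subtype.ext_iff,
        Subtype.ext_iff]
      constructor
      · rintro ⟨m, hm, hms⟩
        rcases hI.pm m hm with h | h
        · exact Or.inl (hms.symm.trans (h x hx))
        · exact Or.inr (hms.symm.trans (h x hx))
      · rintro (h | h)
        · exact ⟨1, one_mem _, by simp only at h; simp [h]⟩
        · exact ⟨n, hn, by simp only at h; rw [h, hne x hx]⟩
    rw [this, Finset.card_pair]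
    exact fun e => hx1 (eq_one_of_inv_eq (pow_nine R hR hx) (congrArg Subtype.val e).symm)
  have hmul := card_orb_mul R hx
  rw [ho, hI.cN_eq hR hx hx1] at hmul
  have hrho := rho_cent R hE hR hx hx1 (k := 1) (by rw [hI.cN_eq hR hx hx1, one_mul])
    fun r hr hrx => by
      have hr1 : r ≠ 1 := fun e => hrx (e ▸ one_mem _)
      rw [hI.cN_eq hR hr hr1, inf_eq_left]
      exact (cR_le_cN R hx).trans inf_le_left
  have ho0 : (orderOf x : ℂ) ≠ 0 := Nat.cast_ne_zero.2 (orderOf_pos x).ne'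
  have hrho' : rho N (Subgroup.centralizer ({x} : Set G)) = 1 / 9 :=
    mul_left_cancel₀ ho0 (by push_cast at hrho; linear_combination hrho)
  rw [W_eq, hrho', hI.cN_eq hR hx hx1, ← hmul]
  have hc : (Nat.card ↥(cR R) : ℂ) ≠ 0 := Nat.cast_ne_zero.2 Nat.card_pos.ne'
  push_cast
  field_simp
  norm_num

end Inv

theorem sign_image_card : ∀ p : Fin 3 × Fin 3,
    ((({1, 2} : Finset (Fin 3)) ×ˢ ({1, 2} : Finset (Fin 3))).image
      fun st => (st.1 * p.1, st.2 * p.2)).card =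
      (if p.1 = 0 then 1 else 2) * (if p.2 = 0 then 1 else 2) := by decide

theorem axis_orbit : ∀ p : Fin 3 × Fin 3, p ≠ (0, 0) → p.1 = 0 ∨ p.2 = 0 →
    (if p.1 = 0 then 1 else 2) * (if p.2 = 0 then 1 else 2) = 2 := by decide

theorem axis_mult : ∀ q p : Fin 3 × Fin 3, p ≠ (0, 0) → p.1 = 0 ∨ p.2 = 0 →
    (q.1 = 0 ∧ p.1 = 0 ∨ q.2 = 0 ∧ p.2 = 0) → ∃ m : Fin 3, q = (m * p.1, m * p.2) := by decide

section Klein

variable {R} {a c : G} (hK : Klein R a c) (hR : Nat.card ↥(R : Subgroup G) = 9)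
include hK hR

omit [Fintype ↥(R : Subgroup G)] in
theorem Klein.order_a : orderOf a = 3 :=
  orderOf_eq_prime (hp := ⟨Nat.prime_three⟩) hK.a3 hK.a1

omit [Fintype ↥(R : Subgroup G)] in
theorem Klein.order_c : orderOf c = 3 :=
  orderOf_eq_prime (hp := ⟨Nat.prime_three⟩) hK.c3 hK.c1

/-- Coordinates. -/
def Klein.pt (_hK : Klein R a c) (p : Fin 3 × Fin 3) : ↥(R : Subgroup G) :=
  ⟨a ^ (p.1 : ℕ) * c ^ (p.2 : ℕ), mul_mem (pow_mem _hK.ha _) (pow_mem _hK.hc _)⟩

theorem Klein.pt_bijective : Function.Bijective hK.pt := by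
  refine (Fintype.bijective_iff_surjective_and_card _).2 ⟨fun r => ?_, ?_⟩
  · obtain ⟨i, j, h⟩ := hK.span r r.2
    refine ⟨(⟨i % 3, Nat.mod_lt _ (by norm_num)⟩, ⟨j % 3, Nat.mod_lt _ (by norm_num)⟩),
      Subtype.ext ?_⟩
    show a ^ (i % 3) * c ^ (j % 3) = (r : G)
    rw [h]
    conv_rhs => rw [← pow_mod_orderOf, hK.order_a hR, ← pow_mod_orderOf c, hK.order_c hR]
  · rw [← Nat.card_eq_fintype_card, ← Nat.card_eq_fintype_card, hR]
    simp

theorem Klein.a_inv : a⁻¹ = a ^ 2 := inv_eq_of_mul_eq_one_right (by rw [← pow_succ']; exact hK.a3)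

theorem Klein.c_inv : c⁻¹ = c ^ 2 := inv_eq_of_mul_eq_one_right (by rw [← pow_succ']; exact hK.c3)

/-- The action of an element of the normaliser in coordinates. -/
theorem Klein.act {n : G} (hn : n ∈ nrm R) : ∃ s t : Fin 3, (s = 1 ∨ s = 2) ∧ (t = 1 ∨ t = 2) ∧
    n * a * n⁻¹ = a ^ (s : ℕ) ∧ n * c * n⁻¹ = c ^ (t : ℕ) ∧
    ∀ p : Fin 3 × Fin 3, n * (hK.pt p : G) * n⁻¹ = hK.pt (s * p.1, t * p.2) := by
  obtain ⟨s, hs, hsa⟩ : ∃ s : Fin 3, (s = 1 ∨ s = 2) ∧ n * a * n⁻¹ = a ^ (s : ℕ) := by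
    rcases hK.sa n hn with h | h
    · exact ⟨1, Or.inl rfl, by simpa using h⟩
    · exact ⟨2, Or.inr rfl, by rw [h, hK.a_inv hR]; rfl⟩
  obtain ⟨t, ht, htc⟩ : ∃ t : Fin 3, (t = 1 ∨ t = 2) ∧ n * c * n⁻¹ = c ^ (t : ℕ) := by
    rcases hK.sc n hn with h | h
    · exact ⟨1, Or.inl rfl, by simpa using h⟩
    · exact ⟨2, Or.inr rfl, by rw [h, hK.c_inv hR]; rfl⟩
  refine ⟨s, t, hs, ht, hsa, htc, fun p => ?_⟩
  show n * (a ^ (p.1 : ℕ) * c ^ (p.2 : ℕ)) * n⁻¹ =
    a ^ ((s * p.1 : Fin 3) : ℕ) * c ^ ((t * p.2 : Fin 3) : ℕ)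
  rw [show n * (a ^ (p.1 : ℕ) * c ^ (p.2 : ℕ)) * n⁻¹ =
    (n * a ^ (p.1 : ℕ) * n⁻¹) * (n * c ^ (p.2 : ℕ) * n⁻¹) by group, ← conj_pow, ← conj_pow,
    hsa, htc, ← pow_mul, ← pow_mul, Fin.val_mul, Fin.val_mul]
  conv_lhs => rw [← pow_mod_orderOf, hK.order_a hR, ← pow_mod_orderOf c, hK.order_c hR]

theorem Klein.cN_pt {p : Fin 3 × Fin 3} (h1 : p.1 ≠ 0) (h2 : p.2 ≠ 0) :
    cN R (hK.pt p : G) = cR R := by
  refine le_antisymm (fun n hn => ?_) (cR_le_cN R (hK.pt p).2)
  obtain ⟨hfix, hnN⟩ := (mem_cN_iff R).1 hn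
  obtain ⟨s, t, hs, ht, -, -, hp⟩ := hK.act hR hnN
  have he := (hK.pt_bijective hR).1 (Subtype.ext ((hp p).symm.trans hfix))
  have hcan : ∀ q x : Fin 3, q ≠ 0 → x * q = q → x = 1 := by decide
  have hs1 : s = 1 := hcan _ _ h1 (congrArg Prod.fst he)
  have ht1 : t = 1 := hcan _ _ h2 (congrArg Prod.snd he)
  refine Subgroup.mem_centralizer_iff.2 fun r hr => ?_
  obtain ⟨q, hq⟩ := (hK.pt_bijective hR).2 ⟨r, hr⟩
  have := hp q
  rw [hs1, ht1, one_mul, one_mul, hq] at this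
  exact ((mul_inv_eq_iff_eq_mul).1 this).symm

theorem Klein.card_orb {p : Fin 3 × Fin 3} :
    (orb R (hK.pt p : G)).card = (if p.1 = 0 then 1 else 2) * (if p.2 = 0 then 1 else 2) := by
  classical
  have hsub : orb R (hK.pt p : G) =
      (({1, 2} : Finset (Fin 3)) ×ˢ ({1, 2} : Finset (Fin 3))).image
        fun st => hK.pt (st.1 * p.1, st.2 * p.2) := by
    ext r
    rw [orb_mem_iff R (hK.pt p).2, Finset.mem_image]
    constructor
    · rintro ⟨n, hn, hne⟩
      obtain ⟨s, t, hs, ht, -, -, hp⟩ := hK.act hR hn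
      exact ⟨(s, t), by simp [hs, ht], Subtype.ext ((hp p).symm.trans hne)⟩
    · rintro ⟨⟨s, t⟩, hst, rfl⟩
      simp only [Finset.mem_product, Finset.mem_insert, Finset.mem_singleton] at hst
      have hmk : ∀ n ∈ nrm R, n * a * n⁻¹ = a ^ (s : ℕ) → n * c * n⁻¹ = c ^ (t : ℕ) →
          ∃ n ∈ nrm R, n * (hK.pt p : G) * n⁻¹ = hK.pt (s * p.1, t * p.2) := by
        intro n hn ha hc
        obtain ⟨s', t', hs', ht', ha', hc', hp⟩ := hK.act hR hn
        have hu : ∀ {x : G}, orderOf x = 3 → ∀ u v : Fin 3, x ^ (u : ℕ) = x ^ (v : ℕ) → u = v := by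
          intro x ho u v h
          rw [pow_eq_pow_iff_modEq, ho] at h
          exact Fin.ext (Nat.ModEq.eq_of_lt_of_lt h u.2 v.2)
        have e1 : s' = s := hu (hK.order_a hR) _ _ (ha'.symm.trans ha)
        have e2 : t' = t := hu (hK.order_c hR) _ _ (hc'.symm.trans hc)
        exact ⟨n, hn, by rw [hp p, e1, e2]⟩
      obtain ⟨n1, hn1, h1a, h1c⟩ := hK.n1
      obtain ⟨n2, hn2, h2a, h2c⟩ := hK.n2
      rcases hst with ⟨rfl | rfl, rfl | rfl⟩
      · exact hmk 1 (one_mem _) (by simp) (by simp)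
      · exact hmk n2 hn2 (by simpa using h2a) (by rw [h2c, hK.c_inv hR]; rfl)
      · exact hmk n1 hn1 (by rw [h1a, hK.a_inv hR]; rfl) (by simpa using h1c)
      · exact hmk (n1 * n2) (mul_mem hn1 hn2)
          (by rw [show n1 * n2 * a * (n1 * n2)⁻¹ = n1 * (n2 * a * n2⁻¹) * n1⁻¹ by group, h2a, h1a,
            hK.a_inv hR]; rfl)
          (by rw [show n1 * n2 * c * (n1 * n2)⁻¹ = n1 * (n2 * c * n2⁻¹) * n1⁻¹ by group, h2c,
            show n1 * c⁻¹ * n1⁻¹ = (n1 * c * n1⁻¹)⁻¹ by group, h1c, hK.c_inv hR]; rfl)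
  rw [hsub, show (fun st : Fin 3 × Fin 3 => hK.pt (st.1 * p.1, st.2 * p.2)) =
    hK.pt ∘ fun st => (st.1 * p.1, st.2 * p.2) from rfl, ← Finset.image_image,
    Finset.card_image_of_injective _ (hK.pt_bijective hR).1]
  exact sign_image_card p

theorem Klein.W_pt (hE : Exp G N) {p : Fin 3 × Fin 3} (hp : p ≠ (0, 0)) :
    W R N (hK.pt p : G) = if p.1 = 0 ∨ p.2 = 0 then 1 / 9 else 1 / 36 := by
  classical
  have hc : (Nat.card ↥(cR R) : ℂ) ≠ 0 := Nat.cast_ne_zero.2 Nat.card_pos.ne'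
  have hN4 : Nat.card (nrm R) = 4 * Nat.card (cR R) := by
    have h := card_orb_mul R (hK.pt (1, 1)).2
    rw [hK.card_orb hR, hK.cN_pt hR (by decide) (by decide)] at h
    exact h.symm
  set x := hK.pt p with hx
  have hx1 : (x : G) ≠ 1 := by
    intro e
    refine hp ((hK.pt_bijective hR).1 (Subtype.ext (e.trans ?_)))
    simp [Klein.pt]
  have hcN := card_orb_mul R x.2
  rw [hx, hK.card_orb hR, hN4, ← hx] at hcN
  by_cases hax : p.1 = 0 ∨ p.2 = 0
  · rw [if_pos hax]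
    have ho : (if p.1 = 0 then 1 else 2) * (if p.2 = 0 then 1 else 2) = 2 := by
      exact axis_orbit p hp hax
    rw [ho] at hcN
    have hk : Nat.card (cN R (x : G)) = 2 * Nat.card (cR R) := by omega
    have hzp : ∀ q : Fin 3 × Fin 3, (q.1 = 0 ∧ p.1 = 0 ∨ q.2 = 0 ∧ p.2 = 0) →
        (hK.pt q : G) ∈ Subgroup.zpowers (x : G) := by
      intro q hq
      obtain ⟨m, hm⟩ := axis_mult q p hp hax hq
      refine Subgroup.mem_zpowers_iff.2 ⟨((m : ℕ) : ℤ), ?_⟩
      rw [zpow_natCast, hm, hx]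
      show (a ^ (p.1 : ℕ) * c ^ (p.2 : ℕ)) ^ (m : ℕ) =
        a ^ ((m * p.1 : Fin 3) : ℕ) * c ^ ((m * p.2 : Fin 3) : ℕ)
      rw [Commute.mul_pow (comm_of_mem R (pow_mem hK.ha _) (pow_mem hK.hc _)), ← pow_mul,
        ← pow_mul, mul_comm (p.1 : ℕ), mul_comm (p.2 : ℕ), Fin.val_mul, Fin.val_mul]
      conv_lhs => rw [← pow_mod_orderOf, hK.order_a hR, ← pow_mod_orderOf c, hK.order_c hR]
    have hrho := rho_cent R hE hR x.2 hx1 hk fun r hr hrx => by
      obtain ⟨q, hq⟩ := (hK.pt_bijective hR).2 ⟨r, hr⟩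
      have hqr : (hK.pt q : G) = r := congrArg Subtype.val hq
      rw [← hqr] at hrx ⊢
      refine le_antisymm (fun n hn => ?_)
        (le_inf (cR_le_cN R (hK.pt q).2) ((cR_le_cN R x.2).trans inf_le_left))
      obtain ⟨hn1, hn2⟩ := hn
      obtain ⟨hfixq, hnN⟩ := (mem_cN_iff R).1 hn1
      obtain ⟨s, t, hs, ht, -, -, hp'⟩ := hK.act hR hnN
      have e1 := (hK.pt_bijective hR).1 (Subtype.ext ((hp' q).symm.trans hfixq))
      have e2 := (hK.pt_bijective hR).1 (Subtype.ext ((hp' p).symm.trans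
        (mul_inv_eq_iff_eq_mul.2 (Subgroup.mem_centralizer_singleton_iff.1 hn2))))
      have hq' : ¬ (q.1 = 0 ∧ p.1 = 0 ∨ q.2 = 0 ∧ p.2 = 0) := fun h => hrx (hzp q h)
      have hst : s = 1 ∧ t = 1 := by
        have h3 : ∀ q p : Fin 3 × Fin 3, ∀ s t : Fin 3,
            ¬ (q.1 = 0 ∧ p.1 = 0 ∨ q.2 = 0 ∧ p.2 = 0) → (s * q.1, t * q.2) = q →
            (s * p.1, t * p.2) = p → s = 1 ∧ t = 1 := by decide
        exact h3 q p s t hq' e1 e2
      refine Subgroup.mem_centralizer_iff.2 fun r hr => ?_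
      obtain ⟨q', hq'⟩ := (hK.pt_bijective hR).2 ⟨r, hr⟩
      have := hp' q'
      rw [hst.1, hst.2, one_mul, one_mul, hq'] at this
      exact ((mul_inv_eq_iff_eq_mul).1 this).symm
    have ho3 : orderOf (x : G) = 3 := by
      refine orderOf_eq_prime (hp := ⟨Nat.prime_three⟩) ?_ hx1
      show (a ^ (p.1 : ℕ) * c ^ (p.2 : ℕ)) ^ 3 = 1
      rw [Commute.mul_pow (comm_of_mem R (pow_mem hK.ha _) (pow_mem hK.hc _)), ← pow_mul,
        ← pow_mul, mul_comm (p.1 : ℕ), mul_comm (p.2 : ℕ), pow_mul, pow_mul, hK.a3, hK.c3,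
        one_pow, one_pow, one_mul]
    rw [ho3] at hrho
    have hrho' : rho N (Subgroup.centralizer ({(x : G)} : Set G)) = 2 / 9 := by
      push_cast at hrho; linear_combination (1 / 3 : ℂ) * hrho
    rw [W_eq, hrho', hk, hN4]
    push_cast
    field_simp
    norm_num
  · rw [if_neg hax]
    push Not at hax
    have hk : cN R (x : G) = cR R := hK.cN_pt hR hax.1 hax.2
    have hrho := rho_cent R hE hR x.2 hx1 (k := 1) (by rw [hk, one_mul]) fun r hr hrx => by
      refine le_antisymm ?_ (le_inf (cR_le_cN R hr) ((cR_le_cN R x.2).trans inf_le_left))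
      intro n hn
      exact hk.le ⟨hn.2, hn.1.2⟩
    have ho0 : (orderOf (x : G) : ℂ) ≠ 0 := Nat.cast_ne_zero.2 (orderOf_pos _).ne'
    have hrho' : rho N (Subgroup.centralizer ({(x : G)} : Set G)) = 1 / 9 :=
      mul_left_cancel₀ ho0 (by push_cast at hrho; linear_combination hrho)
    rw [W_eq, hrho', hk, hN4]
    push_cast
    field_simp
    norm_num

end Klein

end CfsgLib.InvChar.SecNine
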